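import Groth.Agent.NegVanish.Main
import Groth.Agent.InvPow.DualBasis

/-!
# The dual is an inverse
-/

universe u

open CategoryTheory CategoryTheory.Limits AlgebraicGeometry TopologicalSpace Opposite

set_option backward.isDefEq.respectTransparency false
set_option maxHeartbeats 800000

namespace Groth.Agent.NegVanish

open InvBasic ProjUniv Groth.Agent.InvPow Groth.Agent.HilbPoly

variable {X : Scheme.{u}}

/-- `L ⊗ L^∨ ≅ O`. -/
theorem isInverseOf_dual {L : X.Modules} (hL : PicF.IsInvertible L) : ClSub.IsInverseOf L (RefHull.dual L) := by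
  choose V hxV ℓ hℓ using fun x : X => exists_isBasis hL x
  choose θ hθ hpair using fun x => exists_isBasis_dual (hℓ x)
  refine InvPow.nonempty_iso_of_bases (V := V)
    (a := fun x => SecTwist.tmul L (RefHull.dual L) (V x) (ℓ x) (θ x)) (b := fun x => oneSec X (V x))
    (fun x => ⟨x, hxV x⟩) (fun x => isBasis_tmul (hℓ x) (hθ x)) ?_ (fun x => isBasis_oneSec (X := X) (V x))
  intro i j W hi hj u hu
  obtain ⟨c, hc⟩ := exists_coef (isBasis_res (hℓ j) hj) (res L hi (ℓ i))
  obtain ⟨r, hr⟩ := exists_coef (isBasis_res (hθ j) hj) (res (RefHull.dual L) hi (θ i))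
  have hrc : r * c = 1 := by
    refine TopCat.Presheaf.section_ext X.sheaf W _ _ fun y hy => ?_
    refine ((isBasis_oneSec (X := X) W).stalk_bijective hy).1 ?_
    have e := congrArg (fun g : Γ(RefHull.dual L, W) =>
      g.1 ⟨y, hy⟩ (L.presheaf.germ W y hy (res L hi (ℓ i)))) hr
    dsimp only at e
    have l1 : ((RefHull.dual L).presheaf.map (homOfLE hi).op (θ i)).1 ⟨y, hy⟩
        (L.presheaf.germ W y hy (res L hi (ℓ i))) = (Coh.structureModule X).presheaf.germ W y hy (oneSec X W) := by
      show (θ i).1 ⟨y, hi hy⟩ _ = _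
      rw [res, TopCat.Presheaf.germ_res_apply, hpair i ⟨y, hi hy⟩, ← res_oneSec hi, TopCat.Presheaf.germ_res_apply]
    have l2 : (r • (RefHull.dual L).presheaf.map (homOfLE hj).op (θ j)).1 ⟨y, hy⟩
        (L.presheaf.germ W y hy (res L hi (ℓ i))) =
        (X.presheaf.germ W y hy r * X.presheaf.germ W y hy c) •
          (Coh.structureModule X).presheaf.germ W y hy (oneSec X W) := by
      show X.presheaf.germ W y hy r • (θ j).1 ⟨y, hj hy⟩ _ = _
      rw [hc, InvBasic.germ_smul, map_smul, res, TopCat.Presheaf.germ_res_apply, hpair j ⟨y, hj hy⟩,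
        ← res_oneSec hj, TopCat.Presheaf.germ_res_apply, smul_smul]
    show X.presheaf.germ W y hy (r * c) • _ = X.presheaf.germ W y hy 1 • _
    rw [map_mul, ← l2, ← e, l1]
    exact ((congrArg (fun a : X.presheaf.stalk y =>
      a • (Coh.structureModule X).presheaf.germ W y hy (oneSec X W)) (map_one _)).trans (one_smul _ _)).symm
  have h1 : ∀ (x : X) (h : W ≤ V x), res (CohB1.tensorMod L (RefHull.dual L)) h
      (SecTwist.tmul L (RefHull.dual L) (V x) (ℓ x) (θ x)) =
        SecTwist.tmul L (RefHull.dual L) W (res L h (ℓ x)) (res (RefHull.dual L) h (θ x)) := fun x h =>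
    HilbPoly.res_tmul _ _ h _ _
  have hai : res (CohB1.tensorMod L (RefHull.dual L)) hi (SecTwist.tmul L (RefHull.dual L) (V i) (ℓ i) (θ i)) =
      res (CohB1.tensorMod L (RefHull.dual L)) hj (SecTwist.tmul L (RefHull.dual L) (V j) (ℓ j) (θ j)) := by
    rw [h1, h1, hc, hr, ProjCoh.tmul_smul_right, smul_smul, ProjCoh.tmul_smul_left, hrc, one_smul]
  dsimp only at hu
  rw [hai] at hu
  have hu1 : (1 : Γ(X, W)) = u := coef_unique (isBasis_res (isBasis_tmul (hℓ j) (hθ j)) hj)
    ((one_smul _ _).trans hu)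
  rw [← hu1, one_smul]
  exact (res_oneSec hj).trans (res_oneSec hi).symm

/-- Invertible modules have inverses. -/
theorem exists_inverse {L : X.Modules} (hL : PicF.IsInvertible L) : ∃ M : X.Modules, ClSub.IsInverseOf L M :=
  ⟨RefHull.dual L, isInverseOf_dual hL⟩

end Groth.Agent.NegVanish
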