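import Groth.Agent.NegVanish.Syzygy
import Groth.Agent.ProjUniv.Chart
import Groth.Agent.ProjDim.Regular
import Groth.Agent.FreeCx.Resolution
import Groth.Agent.DepthLib.RegularLocal
import Groth.Agent.DepthLib.Localization
import Mathlib.RingTheory.Ideal.Height
import Mathlib.RingTheory.KrullDimension.Polynomial

/-!
# Depth and negative twists on projective space

`exists_vanishing_of_depth_projSpace`: `j ≤ depth G_x` at the closed points gives
`H^i(P^n, G(-m)) = 0` for `i < j`, `m ≫ 0`.
-/

universe u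

open CategoryTheory CategoryTheory.Limits AlgebraicGeometry TopologicalSpace Opposite
open HomogeneousLocalization

set_option backward.isDefEq.respectTransparency false
set_option maxHeartbeats 800000

namespace Groth.Agent.NegVanish

variable {n : ℕ} {k : Type u} [Field k]

local notation "𝒜" => CohB1.polyGrading n k

/-- The standard chart of `P^n` is affine `n`-space. -/
theorem nonempty_chartEquiv (i : Fin (n + 1)) :
    Nonempty (MvPolynomial (Fin n) k ≃+* Away 𝒜 (MvPolynomial.X i)) := by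
  let v : Fin (n + 1) → MvPolynomial (Fin n) k :=
    Fin.insertNth (α := fun _ => MvPolynomial (Fin n) k) i 1 MvPolynomial.X
  have hvi : v i = 1 := Fin.insertNth_apply_same _ _ _
  have hu : IsUnit (MvPolynomial.eval₂Hom MvPolynomial.C v (MvPolynomial.X i)) := by
    rw [MvPolynomial.eval₂Hom_X', hvi]; exact isUnit_one
  let g : Away 𝒜 (MvPolynomial.X i) →+* MvPolynomial (Fin n) k := ProjPoint.evalAway MvPolynomial.C v _ hu
  let f : MvPolynomial (Fin n) k →+* Away 𝒜 (MvPolynomial.X i) :=
    MvPolynomial.eval₂Hom (ProjPoint.chartBase i) fun j => ProjPoint.coord i (i.succAbove j)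
  have hfg : f.comp g = RingHom.id _ := by
    have hu' : IsUnit (MvPolynomial.eval₂Hom (f.comp MvPolynomial.C) (fun l => f (v l)) (MvPolynomial.X i)) := by
      rw [MvPolynomial.eval₂Hom_X', hvi, map_one]; exact isUnit_one
    have hu'' : IsUnit (MvPolynomial.eval₂Hom (ProjPoint.chartBase (R := k) i) (ProjPoint.coord i) (MvPolynomial.X i)) := by
      rw [MvPolynomial.eval₂Hom_X', ProjPoint.coord_self]; exact isUnit_one
    rw [ProjPoint.comp_evalAway _ _ _ hu f hu', ← ProjPoint.evalAway_coord i hu'']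
    refine ProjPoint.evalAway_congr (RingHom.ext fun r => MvPolynomial.eval₂Hom_C _ _ r) (funext fun l => ?_)
    rcases Fin.eq_self_or_eq_succAbove i l with rfl | ⟨j, rfl⟩
    · rw [hvi, map_one, ProjPoint.coord_self]
    · simp [v, f, Fin.insertNth_apply_succAbove]
  have hgf : g.comp f = RingHom.id _ := by
    refine MvPolynomial.ringHom_ext (fun r => ?_) fun j => ?_
    · rw [RingHom.comp_apply, MvPolynomial.eval₂Hom_C]
      exact RingHom.congr_fun (ProjUniv.evalAway_chartBase MvPolynomial.C v i hu) r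
    · rw [RingHom.comp_apply, MvPolynomial.eval₂Hom_X']
      exact (ProjUniv.evalAway_coord MvPolynomial.C v i (i.succAbove j) hu hvi).trans
        (Fin.insertNth_apply_succAbove _ _ _ j)
  exact ⟨RingEquiv.ofRingHom f g hfg hgf⟩

/-- Projective space over a field has regular local rings of dimension at most `n`. -/
theorem stalk_regular (x : (Proj 𝒜 : Scheme.{u})) :
    IsRegularLocalRing ((Proj 𝒜).presheaf.stalk x) ∧
      ringKrullDim ((Proj 𝒜).presheaf.stalk x) ≤ (n : WithBot ℕ∞) := by
  obtain ⟨i, hi⟩ := Opens.mem_iSup.mp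
    ((ProjPoint.iSup_basicOpen_X (R := k) (n := n)).ge (Opens.mem_top x))
  let A := Away 𝒜 (MvPolynomial.X i)
  let j : Spec (CommRingCat.of A) ⟶ Proj 𝒜 :=
    Proj.awayι 𝒜 (MvPolynomial.X i) (ProjPoint.X_mem i) one_pos
  rw [← Proj.opensRange_awayι 𝒜 (MvPolynomial.X i) (ProjPoint.X_mem i) one_pos] at hi
  obtain ⟨p, rfl⟩ := hi
  obtain ⟨e⟩ := nonempty_chartEquiv (k := k) i
  haveI : IsRegularRing A := IsRegularRing.of_ringEquiv e
  have hdim : ringKrullDim A = (n : WithBot ℕ∞) := by
    rw [← ringKrullDim_eq_of_ringEquiv e, MvPolynomial.ringKrullDim_of_isNoetherianRing,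
      ringKrullDim_eq_zero_of_field, zero_add]
    simp
  letI : Algebra A ((Spec (CommRingCat.of A)).presheaf.stalk p) :=
    (StructureSheaf.toStalk A p).hom.toAlgebra
  haveI : IsLocalization p.asIdeal.primeCompl ((Spec (CommRingCat.of A)).presheaf.stalk p) :=
    StructureSheaf.IsLocalization.to_stalk A p
  let e₁ : ((Proj 𝒜).presheaf.stalk (j p)) ≃+* ((Spec (CommRingCat.of A)).presheaf.stalk p) :=
    (asIso (j.stalkMap p)).commRingCatIsoToRingEquiv
  haveI h2 : IsRegularLocalRing ((Spec (CommRingCat.of A)).presheaf.stalk p) :=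
    IsRegularLocalRing.of_ringEquiv
      (IsLocalization.algEquiv p.asIdeal.primeCompl (Localization.AtPrime p.asIdeal) _).toRingEquiv
  refine ⟨IsRegularLocalRing.of_ringEquiv e₁.symm, ?_⟩
  rw [ringKrullDim_eq_of_ringEquiv e₁, IsLocalization.AtPrime.ringKrullDim_eq_height p.asIdeal, ← hdim]
  exact Ideal.height_le_ringKrullDim_of_ne_top p.isPrime.ne_top

/-- Depth bounds projective dimension. -/
theorem hasProjectiveDimensionLT_of_depth {R : Type u} [CommRing R] [IsRegularLocalRing R]
    (hn : ringKrullDim R ≤ (n : WithBot ℕ∞)) (M : ModuleCat.{u} R) [Module.Finite R M] {j : ℕ}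
    (hj : (j : ℕ∞) ≤ LocCoh.depth R M) : HasProjectiveDimensionLT M (n - j + 1) := by
  rcases subsingleton_or_nontrivial M with hs | hnt
  · haveI := (ModuleCat.isZero_of_subsingleton M).hasProjectiveDimensionLT_zero
    exact hasProjectiveDimensionLT_of_ge M 0 (n - j + 1) (Nat.zero_le _)
  haveI := DepthLib.isCohenMacaulayLocalRing_of_isRegularLocalRing R
  obtain ⟨d, hd⟩ : ∃ d : ℕ, ringKrullDim R = (d : WithBot ℕ∞) := by
    obtain ⟨d, hd⟩ := WithBot.ne_bot_iff_exists.mp (ringKrullDim_ne_bot (R := R))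
    rw [← hd] at hn
    obtain ⟨d', rfl⟩ := ENat.ne_top_iff_exists.mp (ne_top_of_le_ne_top (ENat.coe_ne_top n) (WithBot.coe_le_coe.mp hn))
    exact ⟨d', hd.symm⟩
  have hdep : LocCoh.depth R R = d := WithBot.coe_injective ((DepthLib.ringKrullDim_eq_depth (R := R)).symm.trans hd)
  have hdn : d ≤ n := by
    rw [hd] at hn
    exact_mod_cast hn
  have hfin : HasProjectiveDimensionLT (ModuleCat.of R M) (d + 1) := ProjDim.gldim_le_of_regularLocal R d hd _
  obtain ⟨e, -, hed, he, hpd⟩ := FreeCx.exists_depth_add_eq hdep d M hfin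
  rw [he, Nat.cast_le] at hj
  exact hasProjectiveDimensionLT_of_ge M (e + 1) (n - j + 1) (by omega)

/-- The structure map of projective space, on `Proj`. -/
noncomputable local instance overProjDe (n : ℕ) (k : Type u) [Field k] :
    (Proj (CohB1.polyGrading n k)).Over (Spec (CommRingCat.of k)) := ⟨CohB1.ProjSpace.toSpec n k⟩

/-- **Depth gives vanishing of negative twists.** -/
theorem exists_vanishing_of_depth_projSpace (G : (Proj 𝒜).Modules) (hG : Coh.IsCoh G) {j : ℕ} (hj : j ≤ n)
    (hdepth : ∀ x : (Proj 𝒜 : Scheme.{u}), IsClosed ({x} : Set (Proj 𝒜 : Scheme.{u})) →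
      (j : ℕ∞) ≤ LocCoh.depth ((Proj 𝒜).presheaf.stalk x) (G.presheaf.stalk x)) :
    ∃ m₀ : ℤ, ∀ m : ℤ, m₀ ≤ m → ∀ i : ℕ, i < j →
      Subsingleton (Coh.HH (Proj 𝒜) (CohB1.tensorMod G (Twist.twist 𝒜 (-m))) i) := by
  obtain ⟨m₀, hm₀⟩ := exists_vanishing_of_projDim (n - j) G hG fun x hx => by
    haveI := (stalk_regular x).1
    haveI : Module.Finite ((Proj 𝒜).presheaf.stalk x) ((DerSch.stalkFunctor (Proj 𝒜) x).obj G) :=
      finite_stalk hG x
    exact hasProjectiveDimensionLT_of_depth (stalk_regular x).2 _ (hdepth x hx)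
  exact ⟨m₀, fun m hm i hi => hm₀ m hm i (by omega)⟩

/-- A coherent module of depth above `n` at all closed points of `P^n` vanishes. -/
theorem isZero_of_depth_gt (G : (Proj 𝒜).Modules) (hG : Coh.IsCoh G) {j : ℕ} (hj : n < j)
    (hdepth : ∀ x : (Proj 𝒜 : Scheme.{u}), IsClosed ({x} : Set (Proj 𝒜 : Scheme.{u})) →
      (j : ℕ∞) ≤ LocCoh.depth ((Proj 𝒜).presheaf.stalk x) (G.presheaf.stalk x)) : IsZero G := by
  haveI : IsProper (CohB1.ProjSpace.toSpec n k) := InvPow.isProper_toSpec n k
  haveI : CompactSpace (Proj 𝒜 : Scheme.{u}) :=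
    QuasiCompact.compactSpace_of_compactSpace (CohB1.ProjSpace.toSpec n k)
  refine QCohLib.isZero_of_subsingleton_stalk fun y => ?_
  by_contra hy
  have hcl : IsClosed (CohB1.support G) := QCohLib.isClosed_support hG.2
  obtain ⟨x, hx, hxc⟩ := IsClosed.exists_closed_singleton hcl ⟨y, hy⟩
  haveI := (stalk_regular x).1
  haveI : Module.Finite ((Proj 𝒜).presheaf.stalk x) (G.presheaf.stalk x) := finite_stalk hG x
  haveI : Nontrivial (G.presheaf.stalk x) := not_subsingleton_iff_nontrivial.mp hx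
  haveI := DepthLib.isCohenMacaulayLocalRing_of_isRegularLocalRing ((Proj 𝒜).presheaf.stalk x)
  have h1 := (WithBot.coe_le_coe.mpr ((hdepth x hxc).trans (le_refl _))).trans
    ((DepthLib.depth_le_supportDim (R := (Proj 𝒜).presheaf.stalk x) (M := G.presheaf.stalk x)).trans
      ((Module.supportDim_le_ringKrullDim _ _).trans (stalk_regular x).2))
  norm_cast at h1
  omega

end Groth.Agent.NegVanish
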