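import Groth.Agent.NegVanish.Main
import Groth.Agent.DepthSections.ZPure
import Groth.Agent.DepthLib.Sequence
import Groth.Agent.S1576

/-!
# Vanishing of negative twists forces depth

`natCast_le_depth_of_vanishing`.
-/

universe u

open CategoryTheory CategoryTheory.Limits AlgebraicGeometry TopologicalSpace Opposite

set_option backward.isDefEq.respectTransparency false
set_option maxHeartbeats 800000

namespace Groth.Agent.NegVanish

open scoped Pointwise
open InvBasic ProjUniv Groth.Agent.InvPow Groth.Agent.HilbPoly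

variable {X : Scheme.{u}}

/-- A depth-zero closed point gives a non-zero global section. -/
theorem one_le_depth_of_subsingleton_H0 [IsLocallyNoetherian X] {G : X.Modules} (hG : Coh.IsCoh G)
    (h0 : Subsingleton (Coh.HH X G 0)) {x : X} (hx : IsClosed ({x} : Set X)) :
    (1 : ℕ∞) ≤ LocCoh.depth (X.presheaf.stalk x) (G.presheaf.stalk x) := by
  haveI := hG.1
  classical
  rw [DepthSections.one_le_depth_iff_killed G hG x]
  intro q hkill
  by_contra hq0
  obtain ⟨W, hW, hxW, -⟩ := exists_isAffineOpen_mem_and_subset (Opens.mem_top x : x ∈ (⊤ : X.Opens))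
  obtain ⟨m, hm, hsupp⟩ := DepthSections.exists_section_supported G hW hxW q hq0 hkill
  let C : X.Opens := ⟨({x} : Set X)ᶜ, hx.isOpen_compl⟩
  let V : ULift.{u} Bool → X.Opens := fun b => if b.down then W else C
  have hz : ∀ (Y : X.Opens) (hY : Y ≤ W), Y ≤ C → G.presheaf.map (homOfLE hY).op m = 0 := fun Y hY hYC =>
    TopCat.Presheaf.section_ext ⟨G.presheaf, G.isSheaf⟩ Y _ 0 fun z hzY => by
      refine ((TopCat.Presheaf.germ_res_apply G.presheaf (homOfLE hY) z hzY m).trans ?_).trans (map_zero _).symm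
      refine hsupp z (hY hzY) fun hsp => hYC hzY ?_
      have := hx.closure_subset ((specializes_iff_mem_closure).mp hsp)
      exact this
  obtain ⟨g, hg⟩ := InvPow.exists_glue_sections G V
    (fun z => if hzx : z = x then ⟨⟨true⟩, by simpa [V, hzx] using hxW⟩ else ⟨⟨false⟩, by simpa [V, C] using hzx⟩)
    (fun b => match b with | ⟨true⟩ => m | ⟨false⟩ => 0) fun i j => by
      rcases i with ⟨_ | _⟩ <;> rcases j with ⟨_ | _⟩
      · rfl
      · exact (map_zero _).trans (hz _ inf_le_right inf_le_left).symm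
      · exact (hz _ inf_le_left inf_le_right).trans (map_zero _).symm
      · rfl
  let E : Coh.HH X G 0 ≃+ Γ(G, ⊤) :=
    (CohVanish.hEquiv (X := CohVanish.sp X) (Coh.toAb G) 0).trans (CohVanish.eu0 ⊤ _)
  haveI := h0
  have hg0 : g = 0 := by
    rw [← E.apply_symm_apply g, Subsingleton.elim (E.symm g) 0, map_zero]
  apply hm
  have h1 := hg ⟨true⟩
  rw [hg0] at h1
  rw [← show res G (le_top : W ≤ ⊤) 0 = m from h1]
  exact (congrArg _ (map_zero _)).trans (map_zero _)

/-- Twisting by `A` and then by its inverse. -/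
theorem nonempty_twist_cancel {L M : X.Modules} (hL : PicF.IsInvertible L) (hM : ClSub.IsInverseOf L M)
    (F : X.Modules) (e m : ℕ) :
    Nonempty (CohB1.tensorMod (CohB1.tensorMod F (CohB1.tensorPow L e)) (CohB1.tensorPow M (e + m)) ≅
      CohB1.tensorMod F (CohB1.tensorPow M m)) := by
  have hMi := isInvertible_of_inverse hL hM
  have hA := InvPow.isInvertible_tensorPow hL e
  have hB := fun j => InvPow.isInvertible_tensorPow hMi j
  obtain ⟨i₁⟩ := HilbPoly.nonempty_assoc F hA (hB (e + m))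
  obtain ⟨i₂⟩ := InvPow.nonempty_pow_add_iso hMi e m
  obtain ⟨i₃⟩ := HilbPoly.nonempty_assoc (CohB1.tensorPow L e) (hB e) (hB m)
  obtain ⟨i₄⟩ := isInverseOf_pow hL hM e
  obtain ⟨i₅⟩ := ProjTwist.nonempty_tensorMod_comm (Coh.structureModule X) (CohB1.tensorPow M m)
  obtain ⟨i₆⟩ := nonempty_tensor_structureModule (hB m)
  exact ⟨i₁.symm ≪≫ (ProjTwist.nonempty_tensorMod_iso (Iso.refl F)
    ((ProjTwist.nonempty_tensorMod_iso (Iso.refl _) i₂.symm).some ≪≫ i₃ ≪≫
      (ProjTwist.nonempty_tensorMod_iso i₄ (Iso.refl _)).some ≪≫ i₅ ≪≫ i₆)).some⟩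

/-- Multiplication by a global section of `A`. -/
theorem exists_mulHom (F A : X.Modules) (t : Γ(A, ⊤)) :
    ∃ φ : F ⟶ CohB1.tensorMod F A, ∀ (W : X.Opens) (m : Γ(F, W)), φ.app W m = SecTwist.tmul F A W m (gres A t W) := by
  refine ⟨⟨PresheafOfModules.homMk
    { app := fun U => AddCommGrpCat.ofHom (AddMonoidHom.mk' (fun m => SecTwist.tmul F A U.unop m (gres A t U.unop))
        fun m m' => ProjCoh.tmul_add_left F A U.unop m m' _)
      naturality := fun {U U'} g => by
        ext m
        exact ((HilbPoly.res_tmul F A (leOfHom g.unop) m (gres A t U.unop)).trans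
          (congrArg (SecTwist.tmul F A U'.unop _) (InvPow.res_gres A t (leOfHom g.unop)))).symm }
    fun U r m => ProjCoh.tmul_smul_left F A U.unop r m _⟩, fun W m => rfl⟩

/-- **Vanishing of negative twists forces depth.** -/
theorem natCast_le_depth_of_vanishing [IsLocallyNoetherian X] [CompactSpace X] {L M : X.Modules}
    (hL : CohB1.IsAmple L) (hM : ClSub.IsInverseOf L M) : ∀ (n : ℕ) (F : X.Modules), Coh.IsCoh F →
    (∃ m₀ : ℕ, ∀ m : ℕ, m₀ ≤ m → ∀ i : ℕ, i ≤ n →
      Subsingleton (Coh.HH X (CohB1.tensorMod F (CohB1.tensorPow M m)) i)) →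
    ∀ x : X, IsClosed ({x} : Set X) →
      ((n + 1 : ℕ) : ℕ∞) ≤ LocCoh.depth (X.presheaf.stalk x) (F.presheaf.stalk x) := by
  have hMi := isInvertible_of_inverse hL.1 hM
  intro n
  induction n with
  | zero =>
    intro F hF ⟨m₀, hm₀⟩ x hx
    have h := one_le_depth_of_subsingleton_H0 (HilbPoly.isCoh_tensorMod hF (InvPow.isInvertible_tensorPow hMi m₀))
      (hm₀ m₀ le_rfl 0 le_rfl) hx
    rw [depth_tensor_invertible F hF (InvPow.isInvertible_tensorPow hMi m₀)] at h
    exact_mod_cast h
  | succ n ih =>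
    intro F hF ⟨m₀, hm₀⟩ x hx
    haveI := hF.1
    have hFd : ∀ y : X, IsClosed ({y} : Set X) →
        ((n + 1 : ℕ) : ℕ∞) ≤ LocCoh.depth (X.presheaf.stalk y) (F.presheaf.stalk y) :=
      ih F hF ⟨m₀, fun m hm i hi => hm₀ m hm i (by omega)⟩
    haveI : Module.Finite (X.presheaf.stalk x) (F.presheaf.stalk x) := finite_stalk hF x
    let Z : Set X := {y : X | y ∈ (⊤ : X.Opens) ∧ Curv2.IsAssPoint F y}
    have hZfin : Z.Finite := S1576.result X F hF ⊤ isCompact_univ
    let C : X.Opens := ⟨({x} : Set X)ᶜ, hx.isOpen_compl⟩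
    have hZC : Z ⊆ (C : Set X) := by
      rintro y ⟨-, hy⟩ (rfl : y = x)
      have h1 := hFd y hx
      rw [DepthLib.depth_eq_zero_iff.mpr hy] at h1
      simp at h1
    obtain ⟨e, he, t, hsub, htC, -⟩ := InvPow.exists_locus_finite hL Z hZfin C hZC
    let A := CohB1.tensorPow L e
    have hA : PicF.IsInvertible A := InvPow.isInvertible_tensorPow hL.1 e
    let U : X.Opens := genOpen hA t
    obtain ⟨φ, hφ⟩ := exists_mulHom F A t
    have hbij : ∀ {W : X.Opens}, W ≤ U → Function.Bijective fun m : Γ(F, W) => SecTwist.tmul F A W m (gres A t W) :=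
      fun {W} hW => by
      have h := HilbPoly.tmul_bij F (isBasis_genOpen hA t) hW
      simp only [res_gres] at h
      exact h
    have hφinj : ∀ W : X.Opens, Function.Injective (φ.app W) := fun W => by
      rw [injective_iff_map_eq_zero]
      intro m hm
      refine (AssPoints.restrict_injective hF.1 (inf_le_left : W ⊓ U ≤ W) fun y hyW hw =>
        ⟨hyW, hsub ⟨trivial, AssPoints.isWeakAssPoint_iff_isAssPoint.mp hw⟩⟩) ?_
      rw [map_zero]
      refine (hbij (inf_le_right : W ⊓ U ≤ U)).1 ?_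
      change SecTwist.tmul F A _ _ _ = SecTwist.tmul F A _ 0 _
      rw [ProjCoh.tmul_zero_left, ← hφ, QCohLib.app_map, hm, map_zero]
    have hmono : Mono φ := (QCohLib.mono_iff_app_injective φ).mpr hφinj
    have hFA : Coh.IsCoh (CohB1.tensorMod F A) := HilbPoly.isCoh_tensorMod hF hA
    haveI := hFA.1
    let S := ShortComplex.mk φ (cokernel.π φ) (cokernel.condition φ)
    have hS : S.ShortExact := { exact := ShortComplex.exact_of_g_is_cokernel _ (cokernelIsCokernel φ) }
    have hQ : Coh.IsCoh (cokernel φ) := QCohLib.isCoh_cokernel φ hF.1 hFA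
    haveI := hQ.1
    have hQd := ih (cokernel φ) hQ ⟨e + m₀, fun m' hm' i hi => by
      obtain ⟨m, rfl⟩ : ∃ m, m' = e + m := ⟨m' - e, by omega⟩
      have hT := HilbPoly.shortExact_tSC hS (InvPow.isInvertible_tensorPow hMi (e + m))
      obtain ⟨ι⟩ := nonempty_twist_cancel hL.1 hM F e m
      exact CohVanish.subsingleton_HH_of_shortExact₃ hT i
        (@CohVanish.subsingleton_HH_of_iso X _ _ ι.symm i (hm₀ m (by omega) i (by omega)))
        (hm₀ (e + m) (by omega) (i + 1) (by omega))⟩ x hx
    -- the quotient on an affine neighbourhood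
    obtain ⟨V₀, hxV₀, b₀, hb₀⟩ := InvBasic.exists_isBasis hA x
    obtain ⟨V, hV, hxV, hVV₀⟩ := exists_isAffineOpen_mem_and_subset hxV₀
    let b : Γ(A, V) := res A hVV₀ b₀
    have hb : IsBasis A b := isBasis_res hb₀ hVV₀
    obtain ⟨c, hc⟩ := exists_coef hb (gres A t V)
    have hbb : Function.Bijective fun m : Γ(F, V) => SecTwist.tmul F A V m b := by
      have h := HilbPoly.tmul_bij F hb (le_refl V)
      simp only [QCohLib.map_self] at h
      convert h using 2 with m
    let ev : Γ(F, V) ≃ₗ[Γ(X, V)] Γ(CohB1.tensorMod F A, V) := LinearEquiv.ofBijective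
      { toFun := fun m => SecTwist.tmul F A V m b
        map_add' := fun m m' => ProjCoh.tmul_add_left F A V m m' b
        map_smul' := fun r m => ProjCoh.tmul_smul_left F A V r m b } hbb
    have hφV : ∀ m : Γ(F, V), φ.app V m = ev (c • m) := fun m => by
      rw [hφ, hc, ProjCoh.tmul_smul_right]
      rfl
    let π : Γ(F, V) →ₗ[Γ(X, V)] Γ(cokernel φ, V) := QCohLib.appLinearMap (cokernel.π φ) V ∘ₗ ev.toLinearMap
    have hπ : Function.Surjective π :=
      (QCohLib.app_surjective_of_epi (cokernel.π φ) hV).comp ev.surjective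
    have hker : LinearMap.ker π = c • (⊤ : Submodule Γ(X, V) Γ(F, V)) := by
      ext m
      rw [LinearMap.mem_ker, Submodule.mem_smul_pointwise_iff_exists]
      constructor
      · intro h
        obtain ⟨m', hm'⟩ := (QCohLib.sections_exact_of_shortExact hS V).2 (ev m) h
        exact ⟨m', trivial, ev.injective ((hφV m').symm.trans hm')⟩
      · rintro ⟨m', -, rfl⟩
        change (cokernel.π φ).app V (ev (c • m')) = 0
        rw [← hφV]
        exact ConcreteCategory.congr_hom (congrArg (fun ψ => Scheme.Modules.Hom.app ψ V) (cokernel.condition φ)) m'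
    let eQ : QuotSMulTop c Γ(F, V) ≃ₗ[Γ(X, V)] Γ(cokernel φ, V) :=
      (Submodule.quotEquivOfEq _ _ hker.symm).trans (π.quotKerEquivOfSurjective hπ)
    let p := (hV.primeIdealOf ⟨x, hxV⟩).asIdeal
    have hcp : c ∈ p := by
      by_contra hcn
      have h1 : x ∈ X.basicOpen c := (QCohLib.mem_basicOpen_iff_notMem_primeIdealOf hV hxV c).mpr hcn
      rw [← genOpen_inf_eq_basicOpen hA hb hc] at h1
      exact htC h1.1 rfl
    haveI : IsNoetherianRing Γ(X, V) := IsLocallyNoetherian.component_noetherian (X := X) ⟨V, hV⟩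
    haveI : Module.Finite Γ(X, V) Γ(F, V) := (QCohLib.isCoh_iff.mp hF).2 ⟨V, hV⟩
    have hreg : IsSMulRegular (LocalizedModule p.primeCompl Γ(F, V)) (algebraMap Γ(X, V) (Localization.AtPrime p) c) := by
      have h1 : Function.Injective (LinearMap.lsmul Γ(X, V) Γ(F, V) c) := fun a a' h => hφinj V (by
        rw [hφV, hφV]
        exact congrArg ev h)
      have h2 := LocalizedModule.map_injective p.primeCompl _ h1
      rw [DepthLib.localizedModule_map_lsmul] at h2
      exact h2
    have hdep := DepthLib.depth_localization_quotSMulTop_add_one p hcp hreg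
    rw [KoszulHZ.depth_stalk_eq _ hV x hxV] at hQd ⊢
    let g : Γ(cokernel φ, V) →ₗ[Γ(X, V)] LocalizedModule p.primeCompl (QuotSMulTop c Γ(F, V)) :=
      LocalizedModule.mkLinearMap p.primeCompl (QuotSMulTop c Γ(F, V)) ∘ₗ eQ.symm.toLinearMap
    haveI : IsLocalizedModule p.primeCompl g :=
      IsLocalizedModule.of_linearEquiv_right p.primeCompl (LocalizedModule.mkLinearMap p.primeCompl (QuotSMulTop c Γ(F, V))) eQ.symm
    rw [← KoszulHZ.depth_eq_localization (S := Localization.AtPrime p) p g] at hQd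
    rw [← hdep]
    push_cast at hQd ⊢
    gcongr

end Groth.Agent.NegVanish
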