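import Groth.Agent.NegVanish.Depth
import Groth.Agent.HilbPoly.AmpleVanish
import Groth.Agent.HilbPoly.NegTwist
import Groth.Agent.ModGroth.PushStalk
import Groth.Agent.QCohLib.Pullback
import Groth.Agent.KoszulHZ.Depth

/-!
# Negative twists by an ample module and depth

`exists_vanishing_of_depth`: `X` proper over a field, `j ≤ depth F_x` at the closed points, `M` inverse
to an ample module: `H^i(F ⊗ M^m) = 0` for `i < j`, `m ≫ 0`.
-/

universe u

open CategoryTheory CategoryTheory.Limits AlgebraicGeometry TopologicalSpace Opposite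

set_option backward.isDefEq.respectTransparency false
set_option maxHeartbeats 800000

namespace Groth.Agent.NegVanish

open InvBasic ProjUniv Groth.Agent.InvPow Groth.Agent.HilbPoly Groth.Agent.ModGroth

variable {X : Scheme.{u}}

/-- `A ⊗ O ≅ A` for invertible `A`. -/
theorem nonempty_tensor_structureModule {A : X.Modules} (hA : PicF.IsInvertible A) :
    Nonempty (CohB1.tensorMod A (Coh.structureModule X) ≅ A) := by
  choose V hxV a ha using fun x : X => exists_isBasis hA x
  refine InvPow.nonempty_iso_of_bases (V := V)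
    (a := fun x => SecTwist.tmul A (Coh.structureModule X) (V x) (a x) (oneSec X (V x))) (b := a)
    (fun x => ⟨x, hxV x⟩) (fun x => isBasis_tmul (ha x) (isBasis_oneSec (X := X) (V x))) ?_ ha
  intro i j W hi hj u hu
  obtain ⟨c, hc⟩ := exists_coef (isBasis_res (ha j) hj) (res A hi (a i))
  have h1 : ∀ (x : X) (h : W ≤ V x), res (CohB1.tensorMod A (Coh.structureModule X)) h
      (SecTwist.tmul A (Coh.structureModule X) (V x) (a x) (oneSec X (V x))) =
        SecTwist.tmul A (Coh.structureModule X) W (res A h (a x)) (oneSec X W) := fun x h => by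
    rw [HilbPoly.res_tmul]
    exact congrArg (fun z => SecTwist.tmul A (Coh.structureModule X) W (res A h (a x)) z) (res_oneSec h)
  rw [h1, h1] at hu
  obtain ⟨c', hc'⟩ := exists_coef (isBasis_res (ha i) hi) (res A hj (a j))
  rw [hc', ProjCoh.tmul_smul_left] at hu
  rw [hc', coef_unique (isBasis_tmul (isBasis_res (ha i) hi) (isBasis_oneSec (X := X) W)) hu]

/-- Inverses are unique. -/
theorem nonempty_iso_of_inverse {L A A' : X.Modules} (hL : PicF.IsInvertible L) (hA' : PicF.IsInvertible A')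
    (hA : PicF.IsInvertible A) (h : ClSub.IsInverseOf L A) (h' : ClSub.IsInverseOf L A') : Nonempty (A ≅ A') := by
  obtain ⟨e⟩ := h
  obtain ⟨e'⟩ := h'
  obtain ⟨u₁⟩ := nonempty_tensor_structureModule hA
  obtain ⟨u₂⟩ := nonempty_tensor_structureModule hA'
  obtain ⟨a⟩ := HilbPoly.nonempty_assoc A hL hA'
  obtain ⟨c⟩ := ProjTwist.nonempty_tensorMod_comm A L
  obtain ⟨c'⟩ := ProjTwist.nonempty_tensorMod_comm A' (Coh.structureModule X)
  exact ⟨u₁.symm ≪≫ (ProjTwist.nonempty_tensorMod_iso (Iso.refl A) e'.symm).some ≪≫ a ≪≫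
    (ProjTwist.nonempty_tensorMod_iso (c ≪≫ e) (Iso.refl A')).some ≪≫ c'.symm ≪≫ u₂⟩

theorem isInvertible_structureModule' : PicF.IsInvertible (Coh.structureModule X) :=
  isInvertible_of_isBasis fun _ => ⟨⊤, trivial, oneSec X ⊤, isBasis_oneSec (X := X) ⊤⟩

theorem nonempty_tensorPow_structureModule : ∀ d : ℕ,
    Nonempty (CohB1.tensorPow (Coh.structureModule X) d ≅ Coh.structureModule X)
  | 0 => ⟨Iso.refl _⟩
  | d + 1 => by
    obtain ⟨e⟩ := nonempty_tensor_structureModule (InvPow.isInvertible_tensorPow isInvertible_structureModule' d)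
    obtain ⟨e'⟩ := nonempty_tensorPow_structureModule d
    exact ⟨e ≪≫ e'⟩

theorem isInvertible_of_inverse {L M : X.Modules} (hL : PicF.IsInvertible L) (hM : ClSub.IsInverseOf L M) :
    PicF.IsInvertible M := by
  obtain ⟨Φ⟩ := hM
  refine isInvertible_of_isBasis fun x => ?_
  obtain ⟨V, hx, -, ℓ, μ, -, hμ, -⟩ := HilbPoly.exists_paired_bases hL Φ x
  exact ⟨V, hx, μ, hμ⟩

theorem isInverseOf_pow {L M : X.Modules} (hL : PicF.IsInvertible L) (hM : ClSub.IsInverseOf L M) (d : ℕ) :
    ClSub.IsInverseOf (CohB1.tensorPow L d) (CohB1.tensorPow M d) := by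
  have hMi := isInvertible_of_inverse hL hM
  obtain ⟨e₁⟩ := InvPow.nonempty_tensor_pow_iso hL hMi d
  obtain ⟨e⟩ := hM
  obtain ⟨e₂⟩ := HilbPoly.nonempty_tensorPow_congr e d
  obtain ⟨e₃⟩ := nonempty_tensorPow_structureModule (X := X) d
  exact ⟨e₁.symm ≪≫ e₂ ≪≫ e₃⟩

/-- Twisting by an invertible module does not change depths. -/
theorem depth_tensor_invertible (F : X.Modules) (hF : Coh.IsCoh F) {A : X.Modules} (hA : PicF.IsInvertible A)
    (x : X) : LocCoh.depth (X.presheaf.stalk x) ((CohB1.tensorMod F A).presheaf.stalk x) =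
      LocCoh.depth (X.presheaf.stalk x) (F.presheaf.stalk x) := by
  obtain ⟨U, hxU, a₀, ha₀⟩ := InvBasic.exists_isBasis hA x
  obtain ⟨V, hV, hxV, hVU⟩ := exists_isAffineOpen_mem_and_subset hxU
  let a : Γ(A, V) := A.presheaf.map (homOfLE hVU).op a₀
  have ha : IsBasis A a := isBasis_res ha₀ hVU
  have hbij : Function.Bijective fun m : Γ(F, V) => SecTwist.tmul F A V m a := by
    have h := HilbPoly.tmul_bij F ha (le_refl V)
    simp only [QCohLib.map_self] at h
    convert h using 2 with m
  let e : Γ(F, V) ≃ₗ[Γ(X, V)] Γ(CohB1.tensorMod F A, V) := LinearEquiv.ofBijective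
    { toFun := fun m => SecTwist.tmul F A V m a
      map_add' := fun m m' => ProjCoh.tmul_add_left F A V m m' a
      map_smul' := fun c m => ProjCoh.tmul_smul_left F A V c m a } hbij
  haveI := hF.1
  haveI : (CohB1.tensorMod F A).IsQuasicoherent := (HilbPoly.isCoh_tensorMod hF hA).1
  rw [KoszulHZ.depth_stalk_eq _ hV x hxV, KoszulHZ.depth_stalk_eq _ hV x hxV]
  let p := (hV.primeIdealOf ⟨x, hxV⟩).asIdeal
  let g : Γ(CohB1.tensorMod F A, V) →ₗ[Γ(X, V)] LocalizedModule p.primeCompl Γ(F, V) :=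
    LocalizedModule.mkLinearMap p.primeCompl Γ(F, V) ∘ₗ e.symm.toLinearMap
  haveI : IsLocalizedModule p.primeCompl g :=
    IsLocalizedModule.of_linearEquiv_right p.primeCompl (LocalizedModule.mkLinearMap p.primeCompl Γ(F, V)) e.symm
  exact (KoszulHZ.depth_eq_localization p g).symm

/-- **Vanishing of negative ample twists below the depth.** -/
theorem exists_vanishing_of_depth {k : Type u} [Field k] (f : X ⟶ Spec (CommRingCat.of k)) [IsProper f]
    {L M : X.Modules} (hL : CohB1.IsAmple L) (hM : ClSub.IsInverseOf L M) (F : X.Modules) (hF : Coh.IsCoh F)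
    (j : ℕ) (hdepth : ∀ x : X, IsClosed ({x} : Set X) →
      (j : ℕ∞) ≤ LocCoh.depth (X.presheaf.stalk x) (F.presheaf.stalk x)) :
    ∃ m₀ : ℕ, ∀ m : ℕ, m₀ ≤ m → ∀ i : ℕ, i < j →
      Subsingleton (Coh.HH X (CohB1.tensorMod F (CohB1.tensorPow M m)) i) := by
  have : CompactSpace X := QuasiCompact.compactSpace_of_compactSpace f
  have : IsLocallyNoetherian X := LocallyOfFiniteType.isLocallyNoetherian f
  obtain ⟨d, hd0, hd⟩ := exists_bound_isRelVeryAmplePn f hL
  obtain ⟨N, ι, _, hι, ⟨e⟩⟩ := hd d le_rfl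
  have := isProper_snd N (Spec (CommRingCat.of k))
  have : IsProper (ι ≫ pullback.snd (CohB1.ProjSpace.toSpec N (ULift.{u} ℤ))
    (specULiftZIsTerminal.from (Spec (CommRingCat.of k)))) := by
    rw [hι]; infer_instance
  have : IsProper ι := IsProper.of_comp ι (pullback.snd (CohB1.ProjSpace.toSpec N (ULift.{u} ℤ))
    (specULiftZIsTerminal.from (Spec (CommRingCat.of k))))
  have hci : IsClosedImmersion ι := IsClosedImmersion.of_isPreimmersion ι ι.isClosedMap.isClosed_range
  let r : X ⟶ CohB1.ProjSpace N k := ι ≫ inv (ProjSpaceBC.toOver N k)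
  have : IsClosedImmersion r := inferInstance
  have : IsLocallyNoetherian (CohB1.ProjSpace N k) := by
    have := isProper_toSpec N k
    exact LocallyOfFiniteType.isLocallyNoetherian (CohB1.ProjSpace.toSpec N k)
  let Z : (CohB1.ProjSpace N k).Modules := Twist.twistProjSpace N k ((1 : ℕ) : ℤ)
  let Zm : (CohB1.ProjSpace N k).Modules := Twist.twistProjSpace N k (-1)
  have hr : r ≫ ProjSpaceBC.toOver N k = ι := by simp [r]
  obtain ⟨τ⟩ := ProjSpaceBC.nonempty_twistOver_iso N k 1
  let eO : CohB1.tensorPow L d ≅ (Scheme.Modules.pullback r).obj Z :=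
    e ≪≫ (Scheme.Modules.pullbackCongr hr.symm).app _ ≪≫
      ((Scheme.Modules.pullbackComp r (ProjSpaceBC.toOver N k)).app _).symm ≪≫
      (Scheme.Modules.pullback r).mapIso τ
  have hZ : PicF.IsInvertible Z := ProjTwist.isInvertible_twist (ProjCoh.hasUnit_polyGrading _)
  have hZm : PicF.IsInvertible Zm := ProjTwist.isInvertible_twist (ProjCoh.hasUnit_polyGrading _)
  have hMi : PicF.IsInvertible M := isInvertible_of_inverse hL.1 hM
  obtain ⟨η⟩ : Nonempty (CohB1.tensorPow M d ≅ (Scheme.Modules.pullback r).obj Zm) := by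
    refine nonempty_iso_of_inverse (InvPow.isInvertible_tensorPow hL.1 d) (isInvertible_pullback r hZm)
      (InvPow.isInvertible_tensorPow hMi d)
      (isInverseOf_pow hL.1 hM d) ?_
    obtain ⟨p⟩ := InvPow.nonempty_pullback_tensor_iso r hZ hZm
    obtain ⟨t⟩ := ProjTwist.nonempty_tensor_twist_iso (CohB1.polyGrading N k)
      (show ((1 : ℕ) : ℤ) + -1 = 0 by norm_num) (ProjCoh.hasUnit_polyGrading (-1))
    obtain ⟨e0⟩ := ProjTwist.nonempty_structureModule_iso_twist_zero (CohB1.polyGrading N k)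
    exact ⟨(ProjTwist.nonempty_tensorMod_iso eO (Iso.refl _)).some ≪≫ p.symm ≪≫
      (Scheme.Modules.pullback r).mapIso (t ≪≫ e0.symm) ≪≫ QCohLib.pullbackUnitIso r⟩
  have hMa : ∀ a : ℕ, Coh.IsCoh (CohB1.tensorMod F (CohB1.tensorPow M a)) := fun a =>
    HilbPoly.isCoh_tensorMod hF (InvPow.isInvertible_tensorPow hMi a)
  -- vanishing on projective space for each residue
  have hP : ∀ a : ℕ, ∃ q₀ : ℕ, ∀ q : ℕ, q₀ ≤ q → ∀ i : ℕ, i < j →
      Subsingleton (Coh.HH (CohB1.ProjSpace N k) (CohB1.tensorMod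
        ((Scheme.Modules.pushforward r).obj (CohB1.tensorMod F (CohB1.tensorPow M a)))
        (Twist.twistProjSpace N k (-(q : ℤ)))) i) := fun a => by
    let Fa := CohB1.tensorMod F (CohB1.tensorPow M a)
    let G : (Proj (CohB1.polyGrading N k)).Modules := (Scheme.Modules.pushforward r).obj Fa
    have hG : Coh.IsCoh G := QCohLib.isCoh_pushforward r (hMa a)
    have hGd : ∀ z : (Proj (CohB1.polyGrading N k) : Scheme.{u}), IsClosed ({z} : Set _) →
        (j : ℕ∞) ≤ LocCoh.depth ((Proj (CohB1.polyGrading N k)).presheaf.stalk z) (G.presheaf.stalk z) := by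
      intro z hz
      by_cases hzr : z ∈ Set.range r
      · obtain ⟨x, rfl⟩ := hzr
        have hx : IsClosed ({x} : Set X) := by
          rw [r.isClosedEmbedding.isClosed_iff_image_isClosed, Set.image_singleton]
          exact hz
        letI : Algebra ((CohB1.ProjSpace N k).presheaf.stalk (r x)) (X.presheaf.stalk x) :=
          (r.stalkMap x).hom.toAlgebra
        letI : Module ((CohB1.ProjSpace N k).presheaf.stalk (r x)) (Fa.presheaf.stalk x) :=
          Module.compHom _ (r.stalkMap x).hom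
        haveI : IsScalarTower ((CohB1.ProjSpace N k).presheaf.stalk (r x)) (X.presheaf.stalk x)
            (Fa.presheaf.stalk x) := IsScalarTower.of_algebraMap_smul fun _ _ => rfl
        have h1 : LocCoh.depth ((CohB1.ProjSpace N k).presheaf.stalk (r x)) (G.presheaf.stalk (r x)) =
            LocCoh.depth (X.presheaf.stalk x) (Fa.presheaf.stalk x) :=
          ((DepthLib.depth_congr (((PushStalk.pushStalkIso r r.isClosedEmbedding.isInducing x).app Fa).toLinearEquiv)).trans
            (DepthLib.depth_eq_of_surjective (S := X.presheaf.stalk x) (M := Fa.presheaf.stalk x)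
              (r.stalkMap_surjective x)).symm)
        have h2 : LocCoh.depth (X.presheaf.stalk x) (Fa.presheaf.stalk x) =
            LocCoh.depth (X.presheaf.stalk x) (F.presheaf.stalk x) := depth_tensor_invertible F hF
              (InvPow.isInvertible_tensorPow hMi a) x
        exact (hdepth x hx).trans (h1.trans h2).ge
      · haveI : Subsingleton (G.presheaf.stalk z) := ModuleCat.subsingleton_of_isZero
          (PushStalk.isZero_stalk_push r r.isClosedEmbedding.isClosed_range hzr Fa)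
        rw [DepthLib.depth_eq_top_of_subsingleton]
        exact le_top
    rcases le_or_gt j N with hjN | hjN
    · obtain ⟨m₀, hm₀⟩ := exists_vanishing_of_depth_projSpace G hG hjN hGd
      exact ⟨m₀.toNat, fun q hq i hi => hm₀ q (by omega) i hi⟩
    · refine ⟨0, fun q _ i _ => ?_⟩
      let T : (Proj (CohB1.polyGrading N k)).Modules := Twist.twist (CohB1.polyGrading N k) (-(q : ℤ))
      have hT : PicF.IsInvertible T := ProjTwist.isInvertible_twist (ProjCoh.hasUnit_polyGrading _)
      have hz : IsZero (CohB1.tensorMod G T) :=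
        isZero_of_depth_gt _ (HilbPoly.isCoh_tensorMod hG hT) hjN fun z hz =>
          (hGd z hz).trans (depth_tensor_invertible G hG hT z).ge
      exact CohVanish.subsingleton_HH_of_isZero hz i
  choose q₀ hq₀ using hP
  let B : ℕ := (Finset.range d).sup q₀
  refine ⟨d * B + d, fun m hm i hi => ?_⟩
  have hB : B ≤ m / d := (Nat.le_div_iff_mul_le hd0).mpr (by rw [mul_comm]; omega)
  have hv := hq₀ (m % d) (m / d)
    ((Finset.le_sup (f := q₀) (Finset.mem_range.mpr (Nat.mod_lt m hd0))).trans hB) i hi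
  obtain ⟨a₁⟩ := nonempty_pow_add_iso hMi (m % d) (d * (m / d))
  obtain ⟨a₂⟩ := nonempty_pow_mul_iso hMi d (m / d)
  obtain ⟨a₃⟩ := HilbPoly.nonempty_tensorPow_congr η (m / d)
  obtain ⟨a₄⟩ := HilbPoly.nonempty_assoc F (InvPow.isInvertible_tensorPow hMi (m % d))
    (InvPow.isInvertible_tensorPow hMi (d * (m / d)))
  obtain ⟨a₅⟩ := nonempty_push_tensorPow r (CohB1.tensorMod F (CohB1.tensorPow M (m % d))) hZm (m / d)
  obtain ⟨a₆⟩ := ProjTwist.nonempty_twist_iso_tensorPow (CohB1.polyGrading N k)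
    (ProjCoh.hasUnit_polyGrading (-1 : ℤ)) (m / d) (-((m / d : ℕ) : ℤ)) (by ring)
  let Fa := CohB1.tensorMod F (CohB1.tensorPow M (m % d))
  let Fm := CohB1.tensorMod Fa (CohB1.tensorPow ((Scheme.Modules.pullback r).obj Zm) (m / d))
  have hFm : Fm.IsQuasicoherent :=
    (HilbPoly.isCoh_tensorMod (hMa _) (InvPow.isInvertible_tensorPow (isInvertible_pullback r hZm) _)).1
  let e₁ : CohB1.tensorMod F (CohB1.tensorPow M m) ≅ Fm :=
    (ProjTwist.nonempty_tensorMod_iso (Iso.refl F)
      (eqToIso (by rw [Nat.mod_add_div]) ≪≫ a₁.symm)).some ≪≫ a₄ ≪≫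
      (ProjTwist.nonempty_tensorMod_iso (Iso.refl Fa) (a₂.symm ≪≫ a₃)).some
  let e₂ : (Scheme.Modules.pushforward r).obj Fm ≅
      CohB1.tensorMod ((Scheme.Modules.pushforward r).obj Fa) (Twist.twistProjSpace N k (-((m / d : ℕ) : ℤ))) :=
    a₅.symm ≪≫ (ProjTwist.nonempty_tensorMod_iso (Iso.refl _) a₆.symm).some
  obtain ⟨b⟩ := CohVanish.nonempty_HH_push_equiv r Fm i
  have h1 : Subsingleton (Coh.HH (CohB1.ProjSpace N k) ((Scheme.Modules.pushforward r).obj Fm) i) :=
    @CohVanish.subsingleton_HH_of_iso _ _ _ e₂.symm i hv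
  have h2 : Subsingleton (Coh.HH X Fm i) := b.injective.subsingleton
  exact @CohVanish.subsingleton_HH_of_iso _ _ _ e₁.symm i h2

end Groth.Agent.NegVanish
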