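import Groth.Agent.NegVanish.LocFree
import Groth.Agent.DCohPerf.FlatFP
import Groth.Agent.ModGroth.StalkTensor
import Groth.Agent.QCohLib.StalkLoc
import Groth.Agent.ProjCoh.Exact
import Groth.Agent.InvPow.Projective
import Mathlib.CategoryTheory.Abelian.Projective.Dimension
import Mathlib.RingTheory.Localization.Finiteness
import Mathlib.RingTheory.LocalRing.Module

/-!
# Negative twists and projective dimension of the stalks

`exists_vanishing_of_projDim`: if `pd G_x ≤ s` at the closed points of `P^n_k`, then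
`H^i(G(-m)) = 0` for `i + s < n`, `m ≫ 0`.
-/

universe u

open CategoryTheory CategoryTheory.Limits AlgebraicGeometry TopologicalSpace Opposite

set_option backward.isDefEq.respectTransparency false
set_option maxHeartbeats 800000
set_option linter.style.haveILetI false

attribute [local instance] Abelian.hasFiniteBiproducts

namespace Groth.Agent.NegVanish

section Scheme

variable {X : Scheme.{u}}

/-- Stalks of coherent modules are finite. -/
theorem finite_stalk {M : X.Modules} (hM : Coh.IsCoh M) (x : X) :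
    Module.Finite (X.presheaf.stalk x) (M.presheaf.stalk x) := by
  haveI := hM.1
  obtain ⟨_, ⟨U, hU, rfl⟩, hxU, -⟩ :=
    X.isBasis_affineOpens.exists_subset_of_mem_open (Set.mem_univ x) isOpen_univ
  letI := TopCat.Presheaf.algebra_section_stalk X.presheaf ⟨x, hxU⟩
  haveI := hU.isLocalization_stalk ⟨x, hxU⟩
  letI := QCohLib.germModule M x hxU
  haveI := QCohLib.isLocalizedModule_germ (M := M) hU x hxU
  haveI : IsScalarTower Γ(X, U) (X.presheaf.stalk x) (M.presheaf.stalk x) :=
    IsScalarTower.of_algebraMap_smul fun _ _ => rfl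
  haveI : Module.Finite Γ(X, U) Γ(M, U) := (QCohLib.isCoh_iff.mp hM).2 ⟨U, hU⟩
  exact Module.Finite.of_isLocalizedModule (hU.primeIdealOf ⟨x, hxU⟩).asIdeal.primeCompl
    (QCohLib.germLinearMap M x hxU)

/-- A coherent module which is flat at the closed points is finite locally free. -/
theorem isFinLocFree_of_flat_closed [IsLocallyNoetherian X] [JacobsonSpace X] {M : X.Modules} (hM : Coh.IsCoh M)
    (h : ∀ x : X, IsClosed ({x} : Set X) → Module.Flat (X.presheaf.stalk x) (M.presheaf.stalk x)) :
    FlatMod.IsFinLocFree M := by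
  refine DCohPerf.isFinLocFree_of_isFP_flat (QCohLib.isCoh_iff_isFP.mp hM) fun y => ?_
  haveI := hM.1
  obtain ⟨_, ⟨U, hU, rfl⟩, hyU, -⟩ :=
    X.isBasis_affineOpens.exists_subset_of_mem_open (Set.mem_univ y) isOpen_univ
  have hN : Module.Flat Γ(X, U) Γ(M, U) := by
    refine Module.flat_of_isLocalized_maximal (R := Γ(X, U)) Γ(X, U) Γ(M, U)
      (fun P _ => LocalizedModule P.primeCompl Γ(M, U)) (fun P _ => LocalizedModule.mkLinearMap _ _) fun P hP => ?_
    let p : PrimeSpectrum Γ(X, U) := ⟨P, hP.isPrime⟩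
    let x := hU.fromSpec p
    have hxU : x ∈ U := hU.range_fromSpec.le ⟨_, rfl⟩
    have hpx : hU.primeIdealOf ⟨x, hxU⟩ = p :=
      hU.fromSpec.isOpenEmbedding.injective (hU.fromSpec_primeIdealOf ⟨x, hxU⟩)
    have hxc : IsClosed ({x} : Set X) := by
      refine isClosed_singleton_of_isLocallyClosed_singleton
        ⟨(U : Set X), closure {x}, U.2, isClosed_closure, ?_⟩
      refine Set.Subset.antisymm (Set.singleton_subset_iff.mpr ⟨hxU, subset_closure rfl⟩) fun z ⟨hzU, hz⟩ => ?_
      obtain ⟨q, rfl⟩ := hU.range_fromSpec.ge hzU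
      have hsp : p ⤳ q :=
        hU.fromSpec.isOpenEmbedding.isInducing.specializes_iff.mp (specializes_iff_mem_closure.mpr hz)
      have h' : P = q.asIdeal := hP.eq_of_le q.isPrime.ne_top ((PrimeSpectrum.le_iff_specializes p q).mpr hsp)
      exact congrArg hU.fromSpec (PrimeSpectrum.ext h'.symm)
    letI := TopCat.Presheaf.algebra_section_stalk X.presheaf ⟨x, hxU⟩
    haveI := hU.isLocalization_stalk ⟨x, hxU⟩
    letI := QCohLib.germModule M x hxU
    haveI hL := QCohLib.isLocalizedModule_germ (M := M) hU x hxU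
    haveI : IsScalarTower Γ(X, U) (X.presheaf.stalk x) (M.presheaf.stalk x) :=
      IsScalarTower.of_algebraMap_smul fun _ _ => rfl
    haveI : Module.Flat Γ(X, U) (X.presheaf.stalk x) :=
      IsLocalization.flat _ (hU.primeIdealOf ⟨x, hxU⟩).asIdeal.primeCompl
    haveI := h x hxc
    haveI : Module.Flat Γ(X, U) (M.presheaf.stalk x) :=
      Module.Flat.trans Γ(X, U) (X.presheaf.stalk x) (M.presheaf.stalk x)
    rw [hpx] at hL
    exact Module.Flat.of_linearEquiv (@IsLocalizedModule.iso _ _ P.primeCompl _ _ _ _ _ _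
      (QCohLib.germLinearMap M x hxU) hL)
  letI := TopCat.Presheaf.algebra_section_stalk X.presheaf ⟨y, hyU⟩
  haveI := hU.isLocalization_stalk ⟨y, hyU⟩
  letI := QCohLib.germModule M y hyU
  haveI := QCohLib.isLocalizedModule_germ (M := M) hU y hyU
  haveI : IsScalarTower Γ(X, U) (X.presheaf.stalk y) (M.presheaf.stalk y) :=
    IsScalarTower.of_algebraMap_smul fun _ _ => rfl
  exact Module.Flat.of_isLocalizedModule (Rp := X.presheaf.stalk y) (hU.primeIdealOf ⟨y, hyU⟩).asIdeal.primeCompl
    (QCohLib.germLinearMap M y hyU)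

/-- Stalks of finite locally free modules are projective. -/
theorem projective_stalk {M : X.Modules} (hM : FlatMod.IsFinLocFree M) (x : X) :
    Projective ((DerSch.stalkFunctor X x).obj M) := by
  haveI : Module.Flat (X.presheaf.stalk x) (M.presheaf.stalk x) := ModGroth.Perf.isFlat_of_isFinLocFree hM x
  haveI : Module.Finite (X.presheaf.stalk x) (M.presheaf.stalk x) := finite_stalk (DCohPerf.isCoh_finLocFree hM) x
  haveI : Module.Free (X.presheaf.stalk x) (M.presheaf.stalk x) := Module.free_of_flat_of_isLocalRing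
  exact IsProjective.iff_projective (R := X.presheaf.stalk x) _ |>.mp
    (inferInstanceAs (Module.Projective (X.presheaf.stalk x) (M.presheaf.stalk x)))

end Scheme

variable {n : ℕ} {k : Type u} [Field k]

local notation "𝒜" => CohB1.polyGrading n k

/-- The structure map of projective space, on `Proj`. -/
noncomputable local instance overProjSy (n : ℕ) (k : Type u) [Field k] :
    (Proj (CohB1.polyGrading n k)).Over (Spec (CommRingCat.of k)) := ⟨CohB1.ProjSpace.toSpec n k⟩

/-- **Vanishing of negative twists from the projective dimension of the stalks.** -/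
theorem exists_vanishing_of_projDim : ∀ (s : ℕ) (G : (Proj 𝒜).Modules), Coh.IsCoh G →
    (∀ x : (Proj 𝒜 : Scheme.{u}), IsClosed ({x} : Set (Proj 𝒜 : Scheme.{u})) →
      HasProjectiveDimensionLT ((DerSch.stalkFunctor (Proj 𝒜) x).obj G) (s + 1)) →
    ∃ m₀ : ℤ, ∀ m : ℤ, m₀ ≤ m → ∀ i : ℕ, i + s < n →
      Subsingleton (Coh.HH (Proj 𝒜) (CohB1.tensorMod G (Twist.twist 𝒜 (-m))) i) := by
  haveI : IsProper (CohB1.ProjSpace.toSpec n k) := InvPow.isProper_toSpec n k
  haveI : IsLocallyNoetherian (Proj 𝒜) := LocallyOfFiniteType.isLocallyNoetherian (CohB1.ProjSpace.toSpec n k)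
  haveI : JacobsonSpace (Proj 𝒜 : Scheme.{u}) := LocallyOfFiniteType.jacobsonSpace (CohB1.ProjSpace.toSpec n k)
  intro s
  induction s with
  | zero =>
    intro G hG hpd
    have hfree : FlatMod.IsFinLocFree G := isFinLocFree_of_flat_closed hG fun x hx => by
      haveI : Projective ((DerSch.stalkFunctor (Proj 𝒜) x).obj G) :=
        projective_iff_hasProjectiveDimensionLT_one.mpr (hpd x hx)
      haveI : Module.Projective ((Proj 𝒜).presheaf.stalk x) (G.presheaf.stalk x) :=
        (IsProjective.iff_projective (R := (Proj 𝒜).presheaf.stalk x) _).mpr this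
      infer_instance
    obtain ⟨m₀, hm₀⟩ := exists_vanishing_neg_locFree G hfree
    exact ⟨m₀, fun m hm i hi => hm₀ m hm i (by omega)⟩
  | succ s ih =>
    intro G hG hpd
    obtain ⟨q, r, g, -, hg⟩ := ProjCoh.exists_epi_twist_ge G hG 0
    let T : Fin r → (Proj 𝒜).Modules := fun _ => Twist.twist 𝒜 (-(q : ℤ))
    have hT : FlatMod.IsFinLocFree (Twist.twist 𝒜 (-(q : ℤ))) := InvPow.isFinLocFree_of_isInvertible
      (ProjTwist.isInvertible_twist (ProjCoh.hasUnit_polyGrading _))
    have hL : FlatMod.IsFinLocFree (⨁ T) :=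
      LocFree.IsFinLocFree.of_iso (biproduct.isoCoproduct T).symm (ModGroth.Perf.isFinLocFree_sigma T fun _ => hT)
    let p : (⨁ T) ⟶ G := biproduct.desc g
    haveI : Epi p := hg
    let S := ShortComplex.mk (kernel.ι p) p (kernel.condition p)
    have hS : S.ShortExact := { exact := ShortComplex.exact_of_f_is_kernel _ (kernelIsKernel p) }
    have hLc : Coh.IsCoh (⨁ T) := DCohPerf.isCoh_finLocFree hL
    have hK : Coh.IsCoh (kernel p) := QCohLib.isCoh_kernel p hLc hG.1
    obtain ⟨mL, hmL⟩ := exists_vanishing_neg_locFree _ hL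
    obtain ⟨mK, hmK⟩ := ih (kernel p) hK fun x hx => by
      haveI := ModGroth.Stalk.preservesHomology_stalk (X := (Proj 𝒜 : Scheme.{u})) (x := x)
      haveI : PreservesFiniteLimits (DerSch.stalkFunctor (Proj 𝒜) x) :=
        ((DerSch.stalkFunctor (Proj 𝒜) x).preservesFiniteLimits_of_preservesHomology)
      haveI : PreservesFiniteColimits (DerSch.stalkFunctor (Proj 𝒜) x) :=
        ((DerSch.stalkFunctor (Proj 𝒜) x).preservesFiniteColimits_of_preservesHomology)
      have hSx : (S.map (DerSch.stalkFunctor (Proj 𝒜) x)).ShortExact := hS.map_of_exact _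
      refine hSx.hasProjectiveDimensionLT_X₁ (s + 1) ?_ (hpd x hx)
      haveI := projective_stalk hL x
      exact hasProjectiveDimensionLT_of_ge ((DerSch.stalkFunctor (Proj 𝒜) x).obj (⨁ T)) 1 (s + 1) (by omega)
    refine ⟨max mL mK, fun m hm i hi => ?_⟩
    have := hG.1
    have := hLc.1
    have := hK.1
    haveI : S.X₁.IsQuasicoherent := hK.1
    haveI : S.X₂.IsQuasicoherent := hLc.1
    haveI : S.X₃.IsQuasicoherent := hG.1
    refine (ProjCoh.subsingleton_TH_iff G (-m) i).mpr ?_
    obtain ⟨δ, hδg, -⟩ := (ProjCoh.ses_twSecHom hS (-m)).exists_delta i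
    haveI h1 : Subsingleton (ProjCoh.TH (kernel p) (-m) (i + 1)) :=
      (ProjCoh.subsingleton_TH_iff _ _ _).mp (hmK m ((le_max_right _ _).trans hm) (i + 1) (by omega))
    haveI h2 : Subsingleton (ProjCoh.TH (⨁ T) (-m) i) :=
      (ProjCoh.subsingleton_TH_iff _ _ _).mp (hmL m ((le_max_left _ _).trans hm) i (by omega))
    refine subsingleton_of_forall_eq 0 fun y => ?_
    obtain ⟨x, rfl⟩ := (hδg y).1 (Subsingleton.elim (α := ProjCoh.TH (kernel p) (-m) (i + 1)) _ _)
    exact (congrArg _ (Subsingleton.elim (α := ProjCoh.TH (⨁ T) (-m) i) x 0)).trans (map_zero _)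

end Groth.Agent.NegVanish
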