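import Groth.Agent.ProjCoh.LocFreeDuality
import Groth.Agent.ProjCoh.Serre
import Groth.Agent.ModGroth.PerfTensor
import Groth.Agent.InvPow.Resolution
import Groth.Agent.HilbLoc.ConormalFree
import Groth.Agent.HilbPoly.Tensor

/-!
# Negative twists of finite locally free modules on projective space

`exists_vanishing_neg_locFree`: `H^i(P^n, E(-m)) = 0` for `i < n`, `m ≫ 0`, `E` finite locally free.
-/

universe u

open CategoryTheory CategoryTheory.Limits AlgebraicGeometry TopologicalSpace Opposite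

set_option backward.isDefEq.respectTransparency false
set_option maxHeartbeats 1600000

namespace Groth.Agent.NegVanish

open Groth.Agent.ModGroth Groth.Agent.SSExist

section Site

variable {C : Type u} [SmallCategory C] {J : GrothendieckTopology C} {O : Sheaf J CommRingCat.{u}}

lemma evSec_smul (F G : ModSite.Mod O) [ModSite.HasSheafHom F] {U : C} (c : O.obj.obj (op U))
    (s : ((fg O).obj ((ModSite.sheafHom F).obj G)).obj (op U)) (x : ((fg O).obj F).obj (op U)) :
    LocBasis.evSec F G (c • s) x = c • LocBasis.evSec F G s x :=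
  (congrArg _ (TensorProduct.smul_tmul' c s x).symm).trans (map_smul _ _ _)

lemma evSec_add (F G : ModSite.Mod O) [ModSite.HasSheafHom F] {U : C}
    (s t : ((fg O).obj ((ModSite.sheafHom F).obj G)).obj (op U)) (x : ((fg O).obj F).obj (op U)) :
    LocBasis.evSec F G (s + t) x = LocBasis.evSec F G s x + LocBasis.evSec F G t x :=
  (congrArg _ (TensorProduct.add_tmul s t x)).trans (map_add _ _ _)

/-- `Hom(F, M ⊗ A) ≅ Hom(F, M) ⊗ A` for `A` with inverse `B`. -/
theorem nonempty_sheafHom_twist (F A B : ModSite.Mod O) [ModSite.HasSheafHom F]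
    (eAB : ((ModSite.tensorBi O).obj A).obj B ≅ unitObj O) (eBA : ((ModSite.tensorBi O).obj B).obj A ≅ unitObj O)
    (M : ModSite.Mod O) :
    Nonempty ((ModSite.sheafHom F).obj ((tR A).obj M) ≅ (tR A).obj ((ModSite.sheafHom F).obj M)) := by
  let e := ProjCoh.tensorEquivalence A B eAB eBA
  let adjBA : tR B ⊣ tR A := e.toAdjunction
  let adjF := ModSite.sheafHomAdj F
  let α : tR B ⋙ tR F ≅ tR F ⋙ tR B :=
    (tensorAssoc B F).symm ≪≫ (ModSite.tensorBi O).flip.mapIso ((tensorSymm F).app B).symm ≪≫ tensorAssoc F B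
  let β : tR A ⋙ ModSite.sheafHom F ≅ ModSite.sheafHom F ⋙ tR A :=
    conjugateIsoEquiv (adjF.comp adjBA) (adjBA.comp adjF) α
  exact ⟨β.app M⟩

end Site

section Scheme

variable {X : Scheme.{u}}

/-- `Hom(F, M)` of a finite locally free and an invertible module is finite locally free. -/
theorem isFinLocFree_homX {F M : X.Modules} (hF : FlatMod.IsFinLocFree F) (hM : PicF.IsInvertible M)
    [ModSite.HasSheafHom (O := X.sheaf) F] : FlatMod.IsFinLocFree ((homX F).obj M) := by
  refine HilbLoc.isFinLocFree_of_affine_basis _ fun x => ?_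
  obtain ⟨U₀, m, e, hx₀, he⟩ := LocBasis.exists_isBasis hF x
  obtain ⟨U₁, hx₁, t, ht⟩ := InvBasic.exists_isBasis hM x
  let U : X.Opens := U₀ ⊓ U₁
  let eU : ∀ {W : X.Opens}, W ≤ U → Fin m → ((fg X.sheaf).obj F).obj (op W) := fun {W} h i =>
    res (O := X.sheaf) ((fg X.sheaf).obj F) (homOfLE (h.trans inf_le_left)).op (e i)
  have heU : ∀ {W : X.Opens} (h : W ≤ U), LocBasis.IsBasis (O := X.sheaf) F (eU h) := fun {W} h Z k => by
    convert he Z (k ≫ homOfLE (h.trans inf_le_left)) using 5 with i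
    exact (res_comp (O := X.sheaf) ((fg X.sheaf).obj F) _ _ _).symm
  let tU : Γ(M, U) := M.presheaf.map (homOfLE (inf_le_right : U ≤ U₁)).op t
  have hbij : ∀ {W : X.Opens} (h : W ≤ U), Function.Bijective fun c : Γ(X, W) =>
      c • M.presheaf.map (homOfLE h).op tU := fun {W} h => by
    have := ht W (h.trans inf_le_right)
    exact (congrArg Function.Bijective (funext fun c : Γ(X, W) => congrArg (c • ·)
      (QCohLib.map_map M h (inf_le_right : U ≤ U₁) t))).mpr this
  choose s hs using fun i : Fin m =>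
    (LocBasis.bijective_evSec (O := X.sheaf) F M (heU le_rfl)).2 (fun j => if j = i then tU else 0)
  refine ⟨U, m, s, ⟨hx₀, hx₁⟩, fun W hW => ?_⟩
  let Φ : Γ((homX F).obj M, W.1) → Fin m → Γ(M, W.1) := fun σ j => LocBasis.evSec (O := X.sheaf) F M σ (eU hW j)
  have hΦ : Function.Bijective Φ := LocBasis.bijective_evSec (O := X.sheaf) F M (heU hW)
  refine (Function.Bijective.of_comp_iff' hΦ _).mp ?_
  have hsm : ∀ (c : Γ(X, W.1)) (σ : Γ((homX F).obj M, W.1)), Φ (c • σ) = c • Φ σ := fun c σ =>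
    funext fun j => evSec_smul (O := X.sheaf) F M c σ (eU hW j)
  have hadd : ∀ σ τ : Γ((homX F).obj M, W.1), Φ (σ + τ) = Φ σ + Φ τ := fun σ τ =>
    funext fun j => evSec_add (O := X.sheaf) F M σ τ (eU hW j)
  let ΦA : Γ((homX F).obj M, W.1) →+ (Fin m → Γ(M, W.1)) := AddMonoidHom.mk' Φ hadd
  have hres : ∀ i j, Φ (((homX F).obj M).presheaf.map (homOfLE hW).op (s i)) j =
      if j = i then M.presheaf.map (homOfLE hW).op tU else 0 := fun i j => by
    have h1 := congrArg (M.presheaf.map (homOfLE hW).op) (congrFun (hs i) j)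
    rw [apply_ite (M.presheaf.map (homOfLE hW).op), map_zero] at h1
    refine Eq.trans ?_ h1
    refine Eq.trans ?_ (LocBasis.evSec_res (O := X.sheaf) F M (homOfLE hW) (s i) (eU le_rfl j)).symm
    refine congrArg₂ (LocBasis.evSec (O := X.sheaf) F M) rfl ?_
    exact res_comp (O := X.sheaf) ((fg X.sheaf).obj F) _ _ _
  have hcomp : (Φ ∘ fun c : Fin m → Γ(X, W.1) => ∑ i, c i • ((homX F).obj M).presheaf.map (homOfLE hW).op (s i)) =
      fun c j => c j • M.presheaf.map (homOfLE hW).op tU := by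
    funext c j
    change ΦA (∑ i, c i • _) j = _
    rw [map_sum, Finset.sum_apply, Finset.sum_eq_single j]
    · change Φ (c j • _) j = _
      rw [hsm, Pi.smul_apply, hres, if_pos rfl]
    · intro i _ hij
      change Φ (c i • _) j = _
      rw [hsm, Pi.smul_apply, hres, if_neg hij.symm, smul_zero]
    · intro h
      exact absurd (Finset.mem_univ j) h
  rw [hcomp]
  exact Function.Bijective.piMap fun _ => hbij hW

end Scheme

variable {n : ℕ} {k : Type u} [Field k]

local notation "𝒜" => CohB1.polyGrading n k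

/-- The structure map of projective space, on `Proj`. -/
noncomputable local instance overProjLF (n : ℕ) (k : Type u) [Field k] :
    (Proj (CohB1.polyGrading n k)).Over (Spec (CommRingCat.of k)) := ⟨CohB1.ProjSpace.toSpec n k⟩

/-- **Lemma of Enriques–Severi–Zariski for vector bundles.** -/
theorem exists_vanishing_neg_locFree (E : (Proj 𝒜).Modules) (hE : FlatMod.IsFinLocFree E) :
    ∃ m₀ : ℤ, ∀ m : ℤ, m₀ ≤ m → ∀ i : ℕ, i < n →
      Subsingleton (Coh.HH (Proj 𝒜) (CohB1.tensorMod E (Twist.twist 𝒜 (-m))) i) := by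
  let X : Scheme.{u} := Proj 𝒜
  have : IsGrothendieckAbelian.{u} X.Modules := sheaf_isGrothendieckAbelian X.ringCatSheaf
  haveI : HasExt.{u} (ModSite.Mod X.sheaf) := inferInstanceAs (HasExt.{u} X.Modules)
  haveI : IsGrothendieckAbelian.{u} (ModSite.Mod X.sheaf) := sheaf_isGrothendieckAbelian (ModSite.ringSh X.sheaf)
  have hSH : ModSite.HasSheafHom (O := X.sheaf) E := hasSheafHom E
  let ω : X.Modules := Twist.twist 𝒜 (-((n : ℤ) + 1))
  have hinv : ∀ a : ℤ, PicF.IsInvertible (Twist.twist 𝒜 a) := fun a =>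
    ProjTwist.isInvertible_twist (ProjCoh.hasUnit_polyGrading a)
  obtain ⟨d₀, hd₀⟩ := ProjCoh.exists_vanishing ((homX E).obj ω)
    (DCohPerf.isCoh_finLocFree (isFinLocFree_homX hE (hinv _)))
  refine ⟨d₀, fun m hm i hi => ?_⟩
  have hFc : Coh.IsCoh (CohB1.tensorMod E (Twist.twist 𝒜 (-m))) :=
    HilbPoly.isCoh_tensorMod (DCohPerf.isCoh_finLocFree hE) (hinv _)
  have h := ProjCoh.subsingleton_ext_iff (n := n) (k := k) _ hFc (n - i) (by omega)
  rw [show n - (n - i) = i by omega] at h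
  refine h.mp ?_
  obtain ⟨eAB⟩ := ProjTwist.nonempty_tensor_twist_iso 𝒜 (show m + -m = 0 by ring) (ProjCoh.hasUnit_polyGrading (-m))
  obtain ⟨eBA⟩ := ProjTwist.nonempty_tensor_twist_iso 𝒜 (show -m + m = 0 by ring) (ProjCoh.hasUnit_polyGrading m)
  obtain ⟨e0⟩ := ProjTwist.nonempty_structureModule_iso_twist_zero 𝒜
  let u0 : unitObj X.sheaf ≅ ModSite.unit X.sheaf :=
    haveI : IsIso (adjn X.sheaf).counit :=
      inferInstanceAs (IsIso (PresheafOfModules.sheafificationAdjunction (𝟙 (ModSite.ringSh X.sheaf).obj)).counit)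
    (asIso (adjn X.sheaf).counit).app (ModSite.unit X.sheaf)
  let A : ModSite.Mod X.sheaf := Twist.twist 𝒜 m
  let B : ModSite.Mod X.sheaf := Twist.twist 𝒜 (-m)
  let eq := ProjCoh.tensorEquivalence A B (eAB ≪≫ e0.symm ≪≫ u0.symm) (eBA ≪≫ e0.symm ≪≫ u0.symm)
  haveI : (tR B).IsEquivalence := eq.isEquivalence_functor
  haveI : (tR A).IsEquivalence := eq.isEquivalence_inverse
  haveI := tR_additive (O := X.sheaf) A
  have hbij := EtMV.Φ_bijective (L := tR B) (R := tR A) eq.toAdjunction (E : ModSite.Mod X.sheaf) ω (n - i)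
  suffices h2 : Subsingleton (Abelian.Ext.{u} (E : ModSite.Mod X.sheaf) ((tR A).obj ω) (n - i)) from
    hbij.1.subsingleton
  obtain ⟨e₁⟩ := nonempty_ext_linearEquiv_HH (A := k) (X := X) E hE ((tR A).obj ω) (n - i)
  obtain ⟨e₂⟩ := nonempty_sheafHom_twist (O := X.sheaf) E A B (eAB ≪≫ e0.symm ≪≫ u0.symm)
    (eBA ≪≫ e0.symm ≪≫ u0.symm) ω
  have h3 : Subsingleton (Coh.HH X ((homX E).obj ((tR A).obj ω)) (n - i)) :=
    @CohVanish.subsingleton_HH_of_iso X _ _ e₂.symm (n - i) (hd₀ m hm (n - i) (by omega))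
  exact e₁.injective.subsingleton

end Groth.Agent.NegVanish
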