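import Groth.Agent.NegVanish.ZeroLocus
import Groth.Agent.DepthSections.Apps
import Groth.Agent.ZarConn.Stein
import Groth.Agent.CohVanish.Sections

/-!
# Connectedness of ample divisors

`connectedSpace_zeroScheme`: on a connected proper scheme of depth at least two at all closed points the zero
scheme of a regular section of an ample invertible module is connected.
-/

universe u

open CategoryTheory CategoryTheory.Limits AlgebraicGeometry TopologicalSpace Opposite

set_option backward.isDefEq.respectTransparency false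
set_option maxHeartbeats 800000

namespace Groth.Agent.NegVanish

open InvBasic ProjUniv Groth.Agent.InvPow

variable {X : Scheme.{u}}

/-- On a connected scheme proper over a field, a function is invertible everywhere or nowhere. -/
theorem basicOpen_eq_top_or_bot {k : Type u} [Field k] (f : X ⟶ Spec (CommRingCat.of k)) [IsProper f]
    [PreconnectedSpace X] (g : Γ(X, ⊤)) : X.basicOpen g = ⊤ ∨ X.basicOpen g = ⊥ := by
  let ψ : CommRingCat.of k ⟶ Γ(X, ⊤) := (Scheme.ΓSpecIso (CommRingCat.of k)).inv ≫ f.appTop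
  let := ψ.hom.toAlgebra
  have hfin : Module.Finite k Γ(X, ⊤) :=
    (ZarConn.finite_appTop f).comp
      (RingHom.Finite.of_surjective _ (Scheme.ΓSpecIso (CommRingCat.of k)).symm.commRingCatIsoToRingEquiv.surjective)
  haveI : IsArtinianRing Γ(X, ⊤) := IsArtinianRing.of_finite k _
  obtain ⟨N, a, ha⟩ := IsArtinian.exists_pow_succ_smul_dvd (R := Γ(X, ⊤)) (M := Γ(X, ⊤)) g (1 : Γ(X, ⊤))
  have key : g ^ N * (1 - g * a) = 0 := by
    rw [smul_eq_mul, smul_eq_mul, mul_one, pow_succ'] at ha
    linear_combination -ha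
  have hc : ((X.basicOpen g : Set X))ᶜ = (X.basicOpen (1 - g * a) : Set X) := by
    ext x
    rw [Set.mem_compl_iff, SetLike.mem_coe, SetLike.mem_coe, X.mem_basicOpen g x (Opens.mem_top x),
      X.mem_basicOpen _ x (Opens.mem_top x), map_sub, map_one, map_mul]
    refine ⟨fun h => IsLocalRing.isUnit_one_sub_self_of_mem_nonunits _ fun hu => h (isUnit_of_mul_isUnit_left hu),
      fun h hg => ?_⟩
    have h0 := congrArg (X.presheaf.germ ⊤ x trivial) key
    rw [map_mul, map_pow, map_sub, map_one, map_mul, map_zero, (hg.pow N).mul_right_eq_zero] at h0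
    rw [h0] at h
    exact not_isUnit_zero h
  have hcl : IsClopen (X.basicOpen g : Set X) :=
    ⟨⟨hc ▸ (X.basicOpen (1 - g * a)).2⟩, (X.basicOpen g).2⟩
  rcases isClopen_iff.mp hcl with h | h
  · exact Or.inr (TopologicalSpace.Opens.ext h)
  · exact Or.inl (TopologicalSpace.Opens.ext h)

/-- The multiplication by a power of a regular section, as a map from a negative twist. -/
theorem exists_negPow_hom {L M : X.Modules} (hL : PicF.IsInvertible L) (hM : ClSub.IsInverseOf L M)
    (s : Coh.structureModule X ⟶ L) [Mono s] (n : ℕ) (hn : 0 < n) :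
    ∃ ψ : CohB1.tensorMod (Coh.structureModule X) (CohB1.tensorPow M n) ⟶ Coh.structureModule X, Mono ψ ∧
      (∀ W ≤ genOpen hL (PicF2.secVal L s ⊤ : Γ(L, ⊤)), Function.Surjective (ψ.app W)) ∧
      ∀ (W : X.Opens) (m : Γ(CohB1.tensorMod (Coh.structureModule X) (CohB1.tensorPow M n), W)) (x : X)
        (hx : x ∈ W), x ∉ genOpen hL (PicF2.secVal L s ⊤ : Γ(L, ⊤)) →
          ¬ IsUnit (X.presheaf.germ W x hx (show Γ(X, W) from ψ.app W m)) := by
  have hMi := isInvertible_of_inverse hL hM
  obtain ⟨e₁⟩ := nonempty_pow_one_iso hL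
  let t : Γ(L, ⊤) := PicF2.secVal L s ⊤
  let σ : Γ(CohB1.tensorPow L 1, ⊤) := e₁.inv.app ⊤ t
  let U : X.Opens := genOpen hL t
  let A : X.Modules := CohB1.tensorPow L (1 * n)
  have hA : PicF.IsInvertible A := InvPow.isInvertible_tensorPow hL _
  let tA : Γ(A, ⊤) := spow hL σ n
  let B : X.Modules := CohB1.tensorMod (Coh.structureModule X) (CohB1.tensorPow M n)
  obtain ⟨b₁⟩ := ProjTwist.nonempty_tensorMod_comm (Coh.structureModule X) (CohB1.tensorPow M n)
  obtain ⟨b₂⟩ := nonempty_tensor_structureModule (InvPow.isInvertible_tensorPow hMi n)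
  have hB : PicF.IsInvertible B := HilbPoly.isInvertible_of_iso' (b₁ ≪≫ b₂).symm (InvPow.isInvertible_tensorPow hMi n)
  obtain ⟨i₁⟩ := ProjTwist.nonempty_tensorMod_iso (b₁ ≪≫ b₂) (eqToIso (show CohB1.tensorPow L (1 * n) = CohB1.tensorPow L n by rw [one_mul]))
  obtain ⟨i₂⟩ := ProjTwist.nonempty_tensorMod_comm (CohB1.tensorPow M n) (CohB1.tensorPow L n)
  obtain ⟨i₃⟩ := isInverseOf_pow hL hM n
  let ε : CohB1.tensorMod B A ≅ Coh.structureModule X := i₁ ≪≫ i₂ ≪≫ i₃
  have hεinj : ∀ W, Function.Injective (ε.hom.app W) := fun W => (QCohLib.mono_iff_app_injective _).mp inferInstance W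
  obtain ⟨φ, hφ⟩ := exists_mulHom B A tA
  have hgA : genOpen hA tA = U := (genOpen_spow hL σ hn).trans (gen_iff_of_iso hL _ e₁.symm t)
  -- local coefficients
  have hloc : ∀ (W : X.Opens) (e : Γ(L, W)), IsBasis L e → ∀ c : Γ(X, W), gres L t W = c • e →
      ∃ α : Γ(A, W), IsBasis A α ∧ gres A tA W = c ^ n • α := fun W e he c hc => by
    have hb := isBasis_pw he 1
    obtain ⟨d, hd⟩ := exists_coef hb (e₁.inv.app W e)
    refine ⟨d ^ n • pw L e (1 * n), ?_, ?_⟩
    · obtain ⟨c', hc'⟩ := exists_coef (β := e) he (e₁.hom.app W (pw L e 1))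
      have hu : c' * d = 1 := coef_unique he <| by
        have h := congrArg (e₁.hom.app W) hd
        rw [Scheme.Modules.Hom.app_smul, hc', smul_smul,
          show e₁.hom.app W (e₁.inv.app W e) = e from
            ConcreteCategory.congr_hom (congrArg (fun q => Scheme.Modules.Hom.app q W) e₁.inv_hom_id) e] at h
        rw [one_smul, mul_comm]
        exact h.symm
      intro W' hW'
      have hp := isBasis_pw he (1 * n) W' hW'
      have hunit : IsUnit (resR hW' (d ^ n)) := by
        refine IsUnit.map (X.presheaf.map (homOfLE hW').op).hom (IsUnit.pow n ?_)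
        exact IsUnit.of_mul_eq_one c' (by rw [mul_comm]; exact hu)
      have heq : ∀ r : Γ(X, W'), r • res A hW' (d ^ n • pw L e (1 * n)) =
          (r * resR hW' (d ^ n)) • res A hW' (pw L e (1 * n)) := fun r => by rw [res_smul, smul_smul]
      show Function.Bijective fun r : Γ(X, W') => r • res A hW' (d ^ n • pw L e (1 * n))
      rw [funext heq]
      exact hp.comp hunit.unit.mulRight.bijective
    · rw [smul_smul, ← mul_pow]
      refine spow_coef hL σ he ?_ n
      show res (CohB1.tensorPow L 1) le_top (e₁.inv.app ⊤ t) = _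
      refine (QCohLib.app_map e₁.inv (le_top : W ≤ ⊤) t).symm.trans ?_
      rw [show L.presheaf.map (homOfLE (le_top : W ≤ ⊤)).op t = c • e from hc,
        Scheme.Modules.Hom.app_smul, hd, smul_smul]
  have happ : ∀ (W : X.Opens) (m : Γ(B, W)), (φ ≫ ε.hom).app W m =
      ε.hom.app W (SecTwist.tmul B A W m (gres A tA W)) := fun W m => by rw [← hφ]; rfl
  refine ⟨φ ≫ ε.hom, (QCohLib.mono_iff_app_injective _).mpr fun W => ?_, fun W hW z => ?_, fun W m x hx hxU hu => ?_⟩
  · rw [injective_iff_map_eq_zero]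
    intro m hm
    rw [happ] at hm
    have hm0 : SecTwist.tmul B A W m (gres A tA W) = 0 := hεinj W (hm.trans (map_zero _).symm)
    choose V hxV e he using fun x : X => exists_isBasis hL x
    choose V' hxV' β hβ using fun x : X => exists_isBasis hB x
    refine sections_ext B (fun x => V x ⊓ V' x) (fun x => ⟨x, hxV x, hxV' x⟩) fun x => ?_
    let W' := W ⊓ (V x ⊓ V' x)
    have hW' : W' ≤ W := inf_le_left
    have h1 : W' ≤ V x := inf_le_right.trans inf_le_left
    have h2 : W' ≤ V' x := inf_le_right.trans inf_le_right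
    obtain ⟨c, hc⟩ := exists_coef (isBasis_res (he x) h1) (gres L t W')
    obtain ⟨α, hα, htA⟩ := hloc W' _ (isBasis_res (he x) h1) c hc
    obtain ⟨r, hr⟩ := exists_coef (isBasis_res (hβ x) h2) (res B hW' m)
    have h0 : SecTwist.tmul B A W' (res B hW' m) (gres A tA W') = 0 := by
      rw [← res_gres A tA hW', ← HilbPoly.res_tmul, hm0]
      exact map_zero _
    rw [htA, hr, ProjCoh.tmul_smul_right, smul_smul, ProjCoh.tmul_smul_left] at h0
    have hbasis : IsBasis (CohB1.tensorMod B A) (SecTwist.tmul B A W' (res B h2 (β x)) α) :=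
      isBasis_tmul (isBasis_res (hβ x) h2) hα
    have hrc : r * c ^ n = 0 := by
      refine coef_unique hbasis ?_
      rw [zero_smul, mul_comm]
      exact h0
    have hr0 : ∀ (j : ℕ) (r : Γ(X, W')), r * c ^ j = 0 → r = 0 := fun j => by
      induction j with
      | zero => exact fun r h => by simpa using h
      | succ j ih => exact fun r h => ih r (coef_mul_eq_zero s hc (by rw [mul_assoc, ← pow_succ]; exact h))
    show res B hW' m = res B hW' 0
    rw [hr, hr0 n r hrc, zero_smul]
    exact (map_zero _).symm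
  · obtain ⟨m, hm⟩ := (HilbPoly.tmul_bij B (isBasis_genOpen hA tA) (hW.trans hgA.ge)).2 (ε.inv.app W z)
    refine ⟨m, ?_⟩
    dsimp only at hm
    rw [res_gres] at hm
    rw [happ, hm]
    exact ConcreteCategory.congr_hom (congrArg (fun q => Scheme.Modules.Hom.app q W) ε.inv_hom_id) _
  · obtain ⟨V, hxV, e, he⟩ := exists_isBasis hL x
    let W' := W ⊓ V
    have hW' : W' ≤ W := inf_le_left
    have hb := isBasis_res he (inf_le_right : W' ≤ V)
    obtain ⟨c, hc⟩ := exists_coef hb (gres L t W')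
    obtain ⟨α, hα, htA⟩ := hloc W' _ hb c hc
    have h1 : resR hW' (show Γ(X, W) from (φ ≫ ε.hom).app W m) =
        c ^ n * (show Γ(X, W') from ε.hom.app W' (SecTwist.tmul B A W' (res B hW' m) α)) := by
      refine Eq.trans ?_ (Scheme.Modules.Hom.app_smul ε.hom (c ^ n) _)
      refine ((QCohLib.app_map (φ ≫ ε.hom) hW' m).symm).trans ?_
      rw [happ, htA, ProjCoh.tmul_smul_right, ProjCoh.tmul_smul_left]
    have hxW' : x ∈ W' := ⟨hx, hxV⟩
    have h2 : IsUnit (X.presheaf.germ W' x hxW' c) := by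
      have hu' : IsUnit (X.presheaf.germ W' x hxW' (resR hW' (show Γ(X, W) from (φ ≫ ε.hom).app W m))) := by
        rw [show X.presheaf.germ W' x hxW' (resR hW' (show Γ(X, W) from (φ ≫ ε.hom).app W m)) =
          X.presheaf.germ W x hx (show Γ(X, W) from (φ ≫ ε.hom).app W m) from
          TopCat.Presheaf.germ_res_apply X.presheaf (homOfLE hW') x hxW' _]
        exact hu
      rw [h1, map_mul, map_pow] at hu'
      exact (isUnit_pow_iff hn.ne').mp (isUnit_of_mul_isUnit_left hu')
    exact hxU ((genOpen_inf_eq_basicOpen hL hb hc).ge ((X.mem_basicOpen c x hxW').mpr h2)).1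

/-- **Ample divisors are connected.** -/
theorem connectedSpace_zeroScheme {k : Type u} [Field k] (f : X ⟶ Spec (CommRingCat.of k)) [IsProper f]
    [ConnectedSpace X] {L : X.Modules} (hL : CohB1.IsAmple L) (s : Coh.structureModule X ⟶ L) [Mono s]
    (hdepth : ∀ x : X, IsClosed ({x} : Set X) → 2 ≤ LocCoh.depth (X.presheaf.stalk x) (X.presheaf.stalk x)) :
    ConnectedSpace ↥(PicF2.zeroScheme L s).subscheme := by
  obtain ⟨M, hM⟩ := exists_inverse hL.1
  obtain ⟨m₀, hm₀⟩ := exists_vanishing_of_depth f hL hM (Coh.structureModule X)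
    DepthSections.isCoh_structureModule 2 fun x hx => by
      rw [DepthSections.depth_structureModule_stalk]
      exact hdepth x hx
  let U : X.Opens := genOpen hL.1 (PicF2.secVal L s ⊤ : Γ(L, ⊤))
  obtain ⟨ψ, hψ, hsurj, hnu⟩ := exists_negPow_hom hL.1 hM s (m₀ + 1) (Nat.succ_pos _)
  let B : X.Modules := CohB1.tensorMod (Coh.structureModule X) (CohB1.tensorPow M (m₀ + 1))
  have hZne : ((U : Set X))ᶜ.Nonempty := by
    rw [Set.nonempty_compl]
    intro hU
    obtain ⟨m, hm⟩ := hsurj ⊤ (show (⊤ : X.Opens) ≤ U from (TopologicalSpace.Opens.ext hU : U = ⊤).ge) (1 : Γ(X, ⊤))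
    haveI := hm₀ (m₀ + 1) m₀.le_succ 0 two_pos
    let E : Coh.HH X B 0 ≃+ Γ(B, ⊤) :=
      (CohVanish.hEquiv (X := CohVanish.sp X) (Coh.toAb B) 0).trans (CohVanish.eu0 ⊤ _)
    have hm0 : m = 0 := by rw [← E.apply_symm_apply m, Subsingleton.elim (E.symm m) 0, map_zero]
    rw [hm0, map_zero] at hm
    obtain ⟨x⟩ := (inferInstance : Nonempty X)
    have := congrArg (X.presheaf.germ ⊤ x trivial) (show (0 : Γ(X, ⊤)) = 1 from hm)
    rw [map_zero, map_one] at this
    exact zero_ne_one this
  have hpre : IsPreconnected ((U : Set X)ᶜ) := by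
    rw [isPreconnected_closed_iff]
    intro F G hF hG hsub hFn hGn
    by_contra hFG
    rw [Set.not_nonempty_iff_eq_empty] at hFG
    let Z : Set X := (U : Set X)ᶜ
    let V₁ : X.Opens := ⟨(Z ∩ G)ᶜ, (U.2.isClosed_compl.inter hG).isOpen_compl⟩
    let V₂ : X.Opens := ⟨(Z ∩ F)ᶜ, (U.2.isClosed_compl.inter hF).isOpen_compl⟩
    let V : ULift.{u} Bool → X.Opens := fun b => if b.down then V₁ else V₂
    have hcov : ∀ x, ∃ b, x ∈ V b := fun x => by
      by_cases hx : x ∈ Z ∩ G
      · exact ⟨⟨false⟩, fun h => Set.notMem_empty x (hFG ▸ ⟨hx.1, h.2, hx.2⟩)⟩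
      · exact ⟨⟨true⟩, hx⟩
    have h12 : V₁ ⊓ V₂ ≤ U := fun x hx => by
      by_contra hxU
      rcases hsub hxU with h | h
      · exact hx.2 ⟨hxU, h⟩
      · exact hx.1 ⟨hxU, h⟩
    let π := cokernel.π ψ
    have hzero : ∀ W : X.Opens, W ≤ U → π.app W (1 : Γ(X, W)) = 0 := fun W hW => by
      obtain ⟨m, hm⟩ := hsurj W hW (1 : Γ(X, W))
      rw [← hm]
      show (ψ ≫ π).app W m = 0
      rw [show ψ ≫ π = 0 from cokernel.condition ψ]
      rfl
    let S := ShortComplex.mk ψ π (cokernel.condition ψ)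
    have hS : S.ShortExact := { exact := ShortComplex.exact_of_g_is_cokernel _ (cokernelIsCokernel ψ) }
    let Q : X.Modules := cokernel ψ
    let one (W : X.Opens) : Γ(Q, W) := π.app W (1 : Γ(X, W))
    have hone : ∀ {W W' : X.Opens} (h : W' ≤ W), res Q h (one W) = one W' := fun {W W'} h => by
      refine (QCohLib.app_map π h (1 : Γ(X, W))).symm.trans ?_
      exact congrArg (π.app W') (map_one (X.presheaf.map (homOfLE h).op).hom)
    obtain ⟨q, hq⟩ := exists_glue_sections Q V hcov
      (fun b => match b with | ⟨true⟩ => one V₁ | ⟨false⟩ => 0) fun i j => by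
        rcases i with ⟨_ | _⟩ <;> rcases j with ⟨_ | _⟩
        · rfl
        · refine (map_zero _).trans (Eq.symm ?_)
          refine (hone _).trans (hzero _ ?_)
          exact (inf_comm V₂ V₁).le.trans h12
        · exact ((hone _).trans (hzero _ h12)).trans (map_zero _).symm
        · rfl
    obtain ⟨g, hg⟩ := CohVanish.app_top_surjective_of_shortExact hS (hm₀ (m₀ + 1) m₀.le_succ 1 one_lt_two) q
    let g₀ : Γ(X, ⊤) := g
    let g₁ : Γ(X, ⊤) := g₀ - 1
    obtain ⟨a, haZ, haF⟩ := hFn
    obtain ⟨b, hbZ, hbG⟩ := hGn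
    have ha1 : a ∈ V₁ := fun h => Set.notMem_empty a (hFG ▸ ⟨h.1, haF, h.2⟩)
    have hb2 : b ∈ V₂ := fun h => Set.notMem_empty b (hFG ▸ ⟨h.1, h.2, hbG⟩)
    have hga : ¬ IsUnit (X.presheaf.germ ⊤ a trivial g₁) := by
      have h1 := hq ⟨true⟩
      obtain ⟨m, hm⟩ := (QCohLib.sections_exact_of_shortExact hS V₁).2
        ((Coh.structureModule X).presheaf.map (homOfLE (le_top : V₁ ≤ ⊤)).op
          (show Γ(Coh.structureModule X, ⊤) from g₁)) (by
        show π.app V₁ _ = 0
        rw [QCohLib.app_map, show π.app ⊤ (show Γ(Coh.structureModule X, ⊤) from g₁) =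
          π.app ⊤ g - π.app ⊤ (1 : Γ(X, ⊤)) from map_sub (π.app ⊤).hom g (1 : Γ(X, ⊤)), map_sub, sub_eq_zero]
        exact ((congrArg (res Q le_top) hg).trans h1).trans (hone le_top).symm)
      intro hu
      refine hnu V₁ m a ha1 haZ ?_
      rw [show (show Γ(X, V₁) from ψ.app V₁ m) = resR (le_top : V₁ ≤ ⊤) g₁ from hm]
      rw [show X.presheaf.germ V₁ a ha1 (resR (le_top : V₁ ≤ ⊤) g₁) =
        X.presheaf.germ ⊤ a trivial g₁ from TopCat.Presheaf.germ_res_apply X.presheaf _ a ha1 _]
      exact hu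
    have hgb : ¬ IsUnit (X.presheaf.germ ⊤ b trivial g₀) := by
      have h1 := hq ⟨false⟩
      obtain ⟨m, hm⟩ := (QCohLib.sections_exact_of_shortExact hS V₂).2
        ((Coh.structureModule X).presheaf.map (homOfLE (le_top : V₂ ≤ ⊤)).op g) (by
        show π.app V₂ _ = 0
        rw [QCohLib.app_map]
        exact (congrArg (res Q le_top) hg).trans h1)
      intro hu
      refine hnu V₂ m b hb2 hbZ ?_
      rw [show (show Γ(X, V₂) from ψ.app V₂ m) = resR (le_top : V₂ ≤ ⊤) g₀ from hm]
      rw [show X.presheaf.germ V₂ b hb2 (resR (le_top : V₂ ≤ ⊤) g₀) =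
        X.presheaf.germ ⊤ b trivial g₀ from TopCat.Presheaf.germ_res_apply X.presheaf _ b hb2 _]
      exact hu
    rcases basicOpen_eq_top_or_bot f g₀ with h | h
    · exact hgb ((X.mem_basicOpen _ b (Opens.mem_top b)).mp (h.ge trivial))
    · refine hga ?_
      show IsUnit (X.presheaf.germ ⊤ a trivial (g₀ - 1))
      rw [map_sub, map_one]
      have hn : ¬ IsUnit (X.presheaf.germ ⊤ a trivial g₀) := fun hu =>
        (h.le ((X.mem_basicOpen _ a (Opens.mem_top a)).mpr hu) : a ∈ (⊥ : X.Opens))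
      have h2 := IsLocalRing.isUnit_one_sub_self_of_mem_nonunits _ hn
      rw [← neg_sub]
      exact h2.neg
  haveI : PreconnectedSpace ↥(PicF2.zeroScheme L s).subscheme := ⟨by
    refine (PicF2.zeroScheme L s).subschemeι.isEmbedding.isInducing.isPreconnected_image.mp ?_
    rw [Set.image_univ, Scheme.IdealSheafData.range_subschemeι, support_zeroScheme hL.1]
    exact hpre⟩
  obtain ⟨x, hx⟩ := hZne
  rw [← support_zeroScheme hL.1, ← Scheme.IdealSheafData.range_subschemeι] at hx
  obtain ⟨y, -⟩ := hx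
  exact { toNonempty := ⟨y⟩ }

end Groth.Agent.NegVanish
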