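import Groth.Agent.NegVanish.DualInverse
import Groth.Agent.NegVanish.Converse
import Groth.Agent.MeroBasic.ZeroScheme
import Groth.Agent.InvPow.GloballyGenerated

/-!
# The zero locus of a section of an invertible module

`support_zeroScheme`: the zero scheme of a section of an invertible module is supported on the complement
of the locus where the section generates.
-/

universe u

open CategoryTheory CategoryTheory.Limits AlgebraicGeometry TopologicalSpace Opposite

set_option backward.isDefEq.respectTransparency false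
set_option maxHeartbeats 800000

namespace Groth.Agent.NegVanish

open InvBasic ProjUniv Groth.Agent.InvPow

variable {X : Scheme.{u}}

/-- Evaluation against a pairing is symmetric for a rank one module. -/
theorem pairing_comm {L M : X.Modules} (hL : PicF.IsInvertible L)
    (ε : CohB1.tensorMod M L ⟶ Coh.structureModule X) {V : X.Opens} (m : Γ(M, V)) (t ℓ : Γ(L, V)) :
    (show Γ(X, V) from ε.app V (SecTwist.tmul M L V m t)) • ℓ =
      (show Γ(X, V) from ε.app V (SecTwist.tmul M L V m ℓ)) • t := by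
  choose U hxU e he using fun x : X => exists_isBasis hL x
  refine sections_ext L U (fun x => ⟨x, hxU x⟩) fun x => ?_
  have hle : V ⊓ U x ≤ V := inf_le_left
  have hb := isBasis_res (he x) (inf_le_right : V ⊓ U x ≤ U x)
  obtain ⟨c, hc⟩ := exists_coef hb (res L hle t)
  obtain ⟨d, hd⟩ := exists_coef hb (res L hle ℓ)
  have key : ∀ (a : Γ(L, V)), resR hle (show Γ(X, V) from ε.app V (SecTwist.tmul M L V m a)) =
      (show Γ(X, V ⊓ U x) from ε.app (V ⊓ U x) (SecTwist.tmul M L (V ⊓ U x) (res M hle m) (res L hle a))) :=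
    fun a => by
    rw [← HilbPoly.res_tmul M L hle m a]
    exact (QCohLib.app_map ε hle _).symm
  have lin : ∀ (a : Γ(X, V ⊓ U x)),
      (show Γ(X, V ⊓ U x) from ε.app (V ⊓ U x) (SecTwist.tmul M L (V ⊓ U x) (res M hle m)
        (a • res L (inf_le_right : V ⊓ U x ≤ U x) (e x)))) =
      a * (show Γ(X, V ⊓ U x) from ε.app (V ⊓ U x) (SecTwist.tmul M L (V ⊓ U x) (res M hle m)
        (res L (inf_le_right : V ⊓ U x ≤ U x) (e x)))) := fun a => by
    rw [ProjCoh.tmul_smul_right, ProjCoh.tmul_smul_left]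
    exact Scheme.Modules.Hom.app_smul ε a _
  rw [res_smul, res_smul, key, key, hc, hd, lin, lin, smul_smul, smul_smul]
  congr 1
  ring

/-- The section of a map from the structure module, restricted. -/
theorem secVal_eq_gres {L : X.Modules} (s : Coh.structureModule X ⟶ L) (W : X.Opens) :
    (PicF2.secVal L s W : Γ(L, W)) = gres L (PicF2.secVal L s ⊤ : Γ(L, ⊤)) W :=
  MeroBasic.secVal_res L s W

/-- The coefficient of a regular section is a non-zero-divisor. -/
theorem coef_mul_eq_zero {L : X.Modules} (s : Coh.structureModule X ⟶ L) [Mono s] {W : X.Opens} {e : Γ(L, W)}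
    {c r : Γ(X, W)} (hc : gres L (PicF2.secVal L s ⊤ : Γ(L, ⊤)) W = c • e) (h : r * c = 0) : r = 0 := by
  refine (QCohLib.mono_iff_app_injective s).mp ‹_› W ?_
  refine Eq.trans ?_ (map_zero (s.app W).hom).symm
  have h1 : s.app W r = r • (PicF2.secVal L s W : Γ(L, W)) := by
    refine Eq.trans ?_ (Scheme.Modules.Hom.app_smul s r (1 : Γ(X, W)))
    exact congrArg (s.app W) (mul_one r).symm
  rw [h1, secVal_eq_gres, hc, smul_smul, h, zero_smul]

/-- **The support of the zero scheme.** -/
theorem support_zeroScheme {L : X.Modules} (hL : PicF.IsInvertible L) (s : Coh.structureModule X ⟶ L) :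
    ((PicF2.zeroScheme L s).support : Set X) = (genOpen hL (PicF2.secVal L s ⊤ : Γ(L, ⊤)) : Set X)ᶜ := by
  let t : Γ(L, ⊤) := PicF2.secVal L s ⊤
  ext x
  constructor
  · intro hx hxU
    obtain ⟨M, hM⟩ := exists_inverse hL
    have hMi := isInvertible_of_inverse hL hM
    obtain ⟨φ, hφ⟩ := exists_mulHom M L t
    obtain ⟨c₀⟩ := ProjTwist.nonempty_tensorMod_comm M L
    obtain ⟨i₀⟩ := hM
    let ε : CohB1.tensorMod M L ≅ Coh.structureModule X := c₀ ≪≫ i₀
    obtain ⟨J, hJ⟩ := MeroBasic.exists_range_idealSheaf (isQuasicoherent_of_isInvertible hMi) (φ ≫ ε.hom)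
    have hle : J ≤ PicF2.zeroScheme L s := by
      refine Scheme.IdealSheafData.le_ofIdeals_iff.mpr fun V a ha => ?_
      obtain ⟨m, rfl⟩ := (hJ V a).mp ha
      intro (ℓ : Γ(L, V.1))
      refine ⟨(show Γ(X, V.1) from ε.hom.app V.1 (SecTwist.tmul M L V.1 m ℓ)), ?_⟩
      show (show Γ(X, V.1) from ε.hom.app V.1 (φ.app V.1 m)) • ℓ =
        (show Γ(X, V.1) from ε.hom.app V.1 (SecTwist.tmul M L V.1 m ℓ)) • (PicF2.secVal L s V.1 : Γ(L, V.1))
      rw [hφ, secVal_eq_gres]
      exact pairing_comm hL ε.hom m _ ℓ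
    obtain ⟨V, hV, hxV, hVU⟩ := exists_isAffineOpen_mem_and_subset (U := genOpen hL t) hxU
    have h1 : (1 : Γ(X, V)) ∈ (PicF2.zeroScheme L s).ideal ⟨V, hV⟩ := by
      refine hle ⟨V, hV⟩ ((hJ ⟨V, hV⟩ 1).mpr ?_)
      obtain ⟨m, hm⟩ := (HilbPoly.tmul_bij M (isBasis_genOpen hL t) hVU).2 (ε.inv.app V (1 : Γ(X, V)))
      refine ⟨m, ?_⟩
      show ε.hom.app V (φ.app V m) = _
      dsimp only at hm
      rw [res_gres] at hm
      rw [hφ, hm]
      exact ConcreteCategory.congr_hom (congrArg (fun q => Scheme.Modules.Hom.app q V) ε.inv_hom_id) _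
    rw [SetLike.mem_coe, Scheme.IdealSheafData.mem_support_iff_of_mem (U := ⟨V, hV⟩) hxV,
      Scheme.mem_zeroLocus_iff] at hx
    exact hx 1 h1 (by rw [X.basicOpen_of_isUnit isUnit_one]; exact hxV)
  · intro hxU
    obtain ⟨U₀, hxU₀, e₀, he₀⟩ := exists_isBasis hL x
    obtain ⟨V, hV, hxV, hVU⟩ := exists_isAffineOpen_mem_and_subset hxU₀
    have he := isBasis_res he₀ hVU
    obtain ⟨c, hc⟩ := exists_coef he (gres L t V)
    rw [SetLike.mem_coe, Scheme.IdealSheafData.mem_support_iff_of_mem (U := ⟨V, hV⟩) hxV,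
      Scheme.mem_zeroLocus_iff]
    intro a ha hxa
    obtain ⟨b, hb⟩ := Scheme.IdealSheafData.ideal_ofIdeals_le _ ⟨V, hV⟩ ha (res L hVU e₀)
    have hb' : (a : Γ(X, V)) • res L hVU e₀ = (show Γ(X, V) from b) • (PicF2.secVal L s V : Γ(L, V)) := hb
    rw [secVal_eq_gres, hc, smul_smul] at hb'
    have hab : a = (show Γ(X, V) from b) * c := coef_unique he hb'
    rw [hab, X.basicOpen_mul] at hxa
    exact hxU ((genOpen_inf_eq_basicOpen hL he hc).ge hxa.2).1

end Groth.Agent.NegVanish
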